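import Mathlib
import Cfsg.Agent.DxD.Rad
import Cfsg.Agent.PLocal.SL2NatFF

/-! Groups with abelian Sylow `2`-intersections: the members of the Alperin–Goldschmidt family
are abelian, and a pair of them normalizing each other gives a natural `SL₂(q)`-section. -/

set_option autoImplicit false
set_option linter.unusedSectionVars false

namespace Cfsg.Agent.SylAb

open Cfsg Subgroup Cfsg.Agent.PLocal Cfsg.Agent.PLocal.Amb Cfsg.Agent.PLocal.AG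
open Cfsg.Agent.DxD Cfsg.Agent.PLocal.SL2Nat
open scoped commutatorElement

variable {G : Type*} [Group G] [Finite G]

structure Hy (S : Subgroup G) : Prop where
  syl : IsSyl 2 S ⊤
  uniq : ∀ g a b, a ∈ S → b ∈ S → g⁻¹ * a * g ∈ S → g⁻¹ * b * g ∈ S → a * b ≠ b * a → g ∈ 𝐍[S]
  nsc : ∀ A : Subgroup G, A ≤ 𝐂[A] → IsStronglyClosed A S → A = ⊥
  foc : S ≤ S.focalSubgroup
  ncl : ¬ ⁅S, S⁆ ≤ 𝐂[S]

/-- The Borel subgroup of `N(T)`. -/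
def XX (S T : Subgroup G) : Subgroup G := 𝐍[T] ⊓ 𝐍[(S ⊓ 𝐍[T]) ⊔ 𝐂[T]]

theorem XX_le {S T : Subgroup G} : XX S T ≤ 𝐍[T] := inf_le_left

theorem le_XX {S T : Subgroup G} : (S ⊓ 𝐍[T]) ⊔ 𝐂[T] ≤ XX S T :=
  le_inf (sup_le inf_le_right (centralizer_le_normalizer' T)) le_normalizer

theorem rad_om {S T X Y : Subgroup G} (h : Good 2 S T X) (hT : T ≤ 𝐂[T]) (hN : 𝐍[T] ≤ 𝐍[Y])
    {g : G} (hg : g ∈ S) (hgN : g ∈ 𝐍[T]) (h1 : ∀ v ∈ T, v * v = 1 → g * v * g⁻¹ * v⁻¹ ∈ Y)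
    (h2 : ∀ y ∈ Y, y * g = g * y) : g ∈ T := by
  let R : Subgroup G :=
    { carrier := {n | n ∈ 𝐍[T] ∧ ∀ v ∈ T, v * v = 1 → n * v * n⁻¹ * v⁻¹ ∈ Y}
      one_mem' := ⟨one_mem _, fun p _ _ => by simp⟩
      mul_mem' := fun {a b} ha hb => ⟨mul_mem ha.1 hb.1, fun p hp h2 => by
        have e : a * b * p * (a * b)⁻¹ * p⁻¹ =
            a * (b * p * b⁻¹ * p⁻¹) * a⁻¹ * (a * p * a⁻¹ * p⁻¹) := by group
        rw [e]
        exact mul_mem (conj_mem_of_mem_normalizer (hN ha.1) (hb.2 p hp h2)) (ha.2 p hp h2)⟩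
      inv_mem' := fun {a} ha => ⟨inv_mem ha.1, fun p hp h2 => by
        have e : a⁻¹ * p * a⁻¹⁻¹ * p⁻¹ = a⁻¹ * (a * p * a⁻¹ * p⁻¹)⁻¹ * a := by group
        rw [e]
        exact inv_conj_mem_of_mem_normalizer (hN ha.1) (inv_mem (ha.2 p hp h2))⟩ }
  refine h.rad (R ⊓ 𝐂[Y]) (fun n hn => hn.1.1) (le_normalizer_inf
    (fun m hm => mem_normalizer_of_forall fun n hn =>
      ⟨mul_mem (mul_mem hm hn.1) (inv_mem hm), fun p hp h2 => ?_⟩) (le_normalizer_centralizer hN))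
    (pRes_le_of_pow fun n hn => ?_) ⟨hg, ⟨hgN, h1⟩, h2⟩
  · have e : m * n * m⁻¹ * p * (m * n * m⁻¹)⁻¹ * p⁻¹ =
        m * (n * (m⁻¹ * p * m) * n⁻¹ * (m⁻¹ * p * m)⁻¹) * m⁻¹ := by group
    rw [e]
    refine conj_mem_of_mem_normalizer (hN hm) (hn.2 _ (inv_conj_mem_of_mem_normalizer hm hp) ?_)
    rw [show m⁻¹ * p * m * (m⁻¹ * p * m) = m⁻¹ * (p * p) * m by group, h2]; simp
  have cj2 : ∀ m ∈ 𝐍[T], ∀ t ∈ T, m * (t * t) = t * t * m →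
      (m * t * m⁻¹ * t⁻¹) * (m * t * m⁻¹ * t⁻¹) = 1 := fun m hm t ht e => by
    have c : Commute (m * t * m⁻¹) t⁻¹ := hT (inv_mem ht) _ (conj_mem_of_mem_normalizer hm ht)
    rw [← pow_two, c.mul_pow, conj_pow, pow_two, e, inv_pow, pow_two]; simp
  have step : ∀ m ∈ 𝐍[T], ∀ t ∈ T, m * (t * t) = t * t * m →
      (m * t * m⁻¹ * t⁻¹) * m = m * (m * t * m⁻¹ * t⁻¹) → t * (m * m) = m * m * t :=
    fun m hm t ht e e2 => by
      have e3 := cj2 m hm t ht e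
      generalize hy : m * t * m⁻¹ * t⁻¹ = y at e2 e3
      have e4 : m * t = y * t * m := by rw [← hy]; group
      calc t * (m * m) = y * y * t * m * m := by rw [e3]; group
        _ = y * (m * t) * m := by rw [e4]; group
        _ = m * (y * t * m) := by rw [← mul_assoc, e2]; group
        _ = _ := by rw [← e4, mul_assoc]
  have b1 : ∀ v ∈ T, v * v = 1 → v * (n * n) = n * n * v := fun v hv e =>
    step n hn.1.1 v hv (by rw [e]; simp) (hn.2 _ (hn.1.2 v hv e))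
  have key : ∀ i : ℕ, ∀ t ∈ T, t ^ 2 ^ i = 1 → Commute t (n ^ 2 ^ i) := by
    intro i
    induction i with
    | zero => intro t _ e; rw [pow_zero, pow_one] at e; rw [e]; exact Commute.one_left _
    | succ i ih =>
      intro t ht e
      have hm : n ^ 2 ^ i ∈ 𝐍[T] := pow_mem hn.1.1 _
      have e1 : n ^ 2 ^ i * (t * t) = t * t * n ^ 2 ^ i :=
        (ih _ (mul_mem ht ht) (by rw [← pow_two, ← pow_mul, ← pow_succ', e])).symm
      rw [pow_succ, pow_mul, pow_two]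
      rcases i with _ | i
      · simpa [Commute, SemiconjBy] using b1 t ht (by simpa [pow_two] using e)
      refine step _ hm t ht e1 ?_
      have := Commute.pow_right (show Commute _ (n * n) from b1 _ (mul_mem
        (conj_mem_of_mem_normalizer hm ht) (inv_mem ht)) (cj2 _ hm t ht e1)) (2 ^ i)
      rwa [← pow_two, ← pow_mul, ← pow_succ'] at this
  obtain ⟨k, hk⟩ := exists_pow_eq_one (good_pgrp h)
  exact ⟨k, fun t ht => key k t ht (hk t ht)⟩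

/-- An element of `S` centralizing all involutions of `T` lies in `T`. -/
theorem mem_of_om {S T X : Subgroup G} (hS : IsPGroup 2 S) (h : Good 2 S T X) (hT : T ≤ 𝐂[T])
    {g : G} (hg : g ∈ S) (h1 : ∀ v ∈ T, v * v = 1 → v * g = g * v) : g ∈ T := by
  have := eq_of_inf_normalizer_le (p := 2) (R := T) (T := S ⊓ centralizer {v | v ∈ T ∧ v * v = 1})
    (hS.to_le inf_le_left) (le_inf h.le fun t ht v hv => hT ht v hv.1) fun s hs =>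
      rad_om (Y := ⊥) h hT le_normalizer_of_normal hs.1.1 hs.2 (fun v hv e => by
        rw [← hs.1.2 v ⟨hv, e⟩]; simp) (by simp)
  rw [this]
  exact ⟨hg, fun v hv => h1 v hv.1 hv.2⟩

structure FF (S T A U : Subgroup G) (x : G) : Prop where
  le : ∀ p ∈ S, p ∈ 𝐍[T] → ∃ t ∈ T, ∃ a ∈ A, p = t * a
  U_le : U ≤ T ⊓ A
  nU : 𝐍[T] ≤ 𝐍[U]
  xN : x ∈ 𝐍[T]
  disj : ∀ z ∈ T, z ∈ A → x * z * x⁻¹ ∈ A → z ∈ U
  bru : ∀ g ∈ 𝐍[T], g ∉ XX S T → ∃ a ∈ A, g⁻¹ * (a * x) ∈ XX S T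
  comm : ∀ a ∈ A, a ∉ T → ∀ t ∈ T, t ∉ A → ⁅a, t⁆ ∉ U
  sq : ∀ t ∈ T, t * t ∈ U
  om : ∀ t ∈ T, ∃ v ∈ T, v * v = 1 ∧ ∃ u ∈ U, t = v * u
  surj : ∀ t ∈ T, t ∉ A → ∀ w ∈ T, w ∈ A → ∃ a ∈ A, ∃ u ∈ U, w = ⁅a, t⁆ * u

namespace Hy

variable {S T X : Subgroup G} (H : Hy S)
include H

theorem ab (h : Good 2 S T X) : T ≤ 𝐂[T] := by
  intro b hb a ha
  by_contra e
  have hN : 𝐍[T] ≤ 𝐍[S] := fun g hg => H.uniq g a b (h.le ha) (h.le hb)
    (h.le (inv_conj_mem_of_mem_normalizer hg ha)) (h.le (inv_conj_mem_of_mem_normalizer hg hb)) e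
  refine h.lt.not_ge (le_trans (le_inf inf_le_left le_rfl) (h.rad _ inf_le_right
    (le_normalizer_inf hN le_normalizer) ?_))
  rw [pRes_eq_bot h.syl.pgrp]; exact bot_le

omit H in
theorem _root_.Cfsg.Agent.SylAb.not_le_XX (h : Good 2 S T X) : ¬ 𝐍[T] ≤ XX S T := fun e =>
  h.lt.not_ge (le_trans (le_inf inf_le_left le_sup_left) (h.rad _ (le_XX.trans XX_le)
    (e.trans inf_le_right) (by
      rw [sup_comm]
      exact pRes_sup_le h.syl.pgrp (le_normalizer_centralizer inf_le_right))))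

theorem ti (h : Good 2 S T X) {g a : G} (hg : g ∈ 𝐍[T]) (hgX : g ∉ XX S T) (ha : a ∈ S)
    (hx : g⁻¹ * a * g ∈ XX S T) : a ∈ T := by
  by_contra h1
  obtain ⟨t, ht, e⟩ : ∃ t ∈ T, t * a ≠ a * t := by
    by_contra e; push Not at e; exact h1 (h.cent ⟨ha, e⟩)
  have hp : IsPGroup 2 ↥(zpowers (g⁻¹ * a * g) ⊔ T) := isPGroup_sup (isPGroup_zpowers (by
    obtain ⟨k, hk⟩ := isPGroup_iff.1 H.syl.pgrp a ha
    exact ⟨k, by simpa [hk] using conj_pow (i := 2 ^ k) (a := g⁻¹) (b := a)⟩)) (good_pgrp h) (zpowers_le.2 (XX_le hx))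
  obtain ⟨c, hc, hle⟩ := (h.syl.mono (le_sup_left.trans le_XX) XX_le).exists_le_cj hp
    (sup_le (zpowers_le.2 hx) (h.lt.le.trans (le_sup_left.trans le_XX)))
  have hN : g * c ∈ 𝐍[T] := mul_mem hg (XX_le hc)
  have h2 : g * c ∈ 𝐍[S] := H.uniq _ t a (h.le ht) ha (h.le (inv_conj_mem_of_mem_normalizer hN ht))
    (by simpa [mul_assoc] using (mem_cj.1 (hle (mem_sup_left (mem_zpowers _)))).1) e
  have h3 : g * c ∈ XX S T := ⟨hN, le_normalizer_sup (L := 𝐍[S] ⊓ 𝐍[T])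
    (le_normalizer_inf inf_le_left (inf_le_right.trans le_normalizer))
    (le_normalizer_centralizer inf_le_right) ⟨h2, hN⟩⟩
  exact hgX (by simpa using mul_mem h3 (inv_mem hc))

theorem ff {A Y : Subgroup G} (h : Good 2 S T X) (hA : Good 2 S A Y) (hne : ¬ A ≤ T)
    (hAN : A ≤ 𝐍[T]) (hTN : T ≤ 𝐍[A]) (hc : Nat.card T ≤ Nat.card A) : ∃ U x, FF S T A U x := by
  have hVc := H.ab h
  have hAc := H.ab hA
  have eZ : T ⊓ 𝐂[A] = T ⊓ A := le_antisymm (le_inf inf_le_left fun t ht => hA.cent ⟨h.le ht.1, ht.2⟩)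
    (inf_le_inf_left _ hAc)
  have hAX : A ≤ XX S T := (le_inf hA.le hAN).trans (le_sup_left.trans le_XX)
  have hCX : 𝐂[T] ≤ XX S T := le_sup_right.trans le_XX
  have hq : ⁅T, A⁆ ≤ 𝐂[A] := (le_normalizer_iff_commutator_le_right.1 hTN).trans hAc
  obtain ⟨a₀, ha₀, ha₀1⟩ := SetLike.not_le_iff_exists.1 hne
  have hti : ∀ g ∈ 𝐍[T], g ∉ XX S T → ∀ a ∈ A, g⁻¹ * a * g ∈ XX S T → a ∈ T :=
    fun g hg hgX a ha e => H.ti h hg hgX (hA.le ha) e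
  have key : ∀ y ∈ 𝐍[T], y ∉ XX S T → ∃ x, A ⊔ cj(x, A) ≤ A ⊔ cj(y, A) ∧
      AmbOff (A ⊔ cj(x, A)) A (XX S T) 𝐂[T] T (T ⊓ 𝐂[A]) (T ⊓ 𝐂[A ⊔ cj(x, A)]) x := by
    intro y hy hyX
    obtain ⟨x₀, ⟨hx₀, hx₀X, hx₀y⟩, hmin⟩ := Set.exists_min_image
      {x : G | x ∈ 𝐍[T] ∧ x ∉ XX S T ∧ A ⊔ cj(x, A) ≤ A ⊔ cj(y, A)}
      (fun x => Nat.card ↥(A ⊔ cj(x, A))) (Set.toFinite _) ⟨y, hy, hyX, le_rfl⟩
    have hLH : A ⊔ cj(x₀, A) ≤ 𝐍[T] := sup_le hAN (cj_le_of_mem hAN hx₀)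
    have hgen : ∀ g ∈ A ⊔ cj(x₀, A), g ∉ XX S T → A ⊔ cj(g, A) = A ⊔ cj(x₀, A) := by
      intro g hg hgX
      have h1 : A ⊔ cj(g, A) ≤ A ⊔ cj(x₀, A) := sup_le le_sup_left (cj_le_of_mem le_sup_left hg)
      exact eq_of_le_of_card_ge h1 (hmin g ⟨hLH hg, hgX, h1.trans hx₀y⟩)
    have hLX : ¬ A ⊔ cj(x₀, A) ≤ XX S T := by
      intro h
      have h1 : x₀ * a₀ * x₀⁻¹ ∈ XX S T := h (mem_sup_right ⟨a₀, ha₀, rfl⟩)
      exact ha₀1 (hti x₀⁻¹ (inv_mem hx₀) (fun h => hx₀X (by simpa using inv_mem h)) a₀ ha₀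
        (by simpa using h1))
    obtain ⟨x, hx, hxX⟩ := SetLike.not_le_iff_exists.1 hLX
    refine ⟨x, hgen x hx hxX ▸ hx₀y, ?_⟩
    have hgx := hgen x hx hxX
    rw [hgx]
    refine ambOff_module hVc hLH le_sup_left hAX hx hxX (le_normalizer_centralizer hLH) inf_le_left
      (fun g hg hgX => by rw [hgen g hg hgX]; exact le_sup_left)
      (fun g hg hgX a ha e => hVc (hti g (hLH hg) hgX a ha e)) hq ?_ ?_
    swap
    · refine Nat.mul_le_mul hc (card_le_of_le ?_)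
      rw [eZ]; exact le_inf (fun a ha => h.cent ⟨hA.le ha.1, ha.2⟩) inf_le_left
    intro h
    set L := A ⊔ cj(x₀, A) with hL
    have h1 : ⁅T, A⁆ ≤ 𝐂[L] := (le_inf (le_normalizer_iff_commutator_le_left.1 hAN) hq).trans h
    have h2 : ⁅T, cj(x, A)⁆ ≤ 𝐂[L] := by
      rw [← cj_of_mem_normalizer (hLH hx), commutator_cj]
      exact cj_le_of_mem_normalizer h1 (le_normalizer_centralizer le_normalizer hx)
    have h3 : ⁅T, L⁆ ≤ 𝐂[L] := by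
      have hn : L ≤ 𝐍[𝐂[L]] := le_normalizer_centralizer le_normalizer
      conv_lhs => rw [← hgx]
      exact CommMod.commutator_sup_le' (le_sup_left.trans hn) ((hgx ▸ le_sup_right :).trans hn) h1 h2
    have h4 : ⁅⁅L, L⁆, T⁆ = ⊥ := by
      have h5 : ⁅⁅T, L⁆, L⁆ = ⊥ := commutator_eq_bot_iff_le_centralizer.2 h3
      exact commutator_commutator_eq_bot_of_rotate (by rw [commutator_comm L T]; exact h5) h5
    have h5 : ⁅x⁻¹, a₀⁆ ∈ XX S T := hCX (commutator_eq_bot_iff_le_centralizer.1 h4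
      (commutator_mem_commutator (L.inv_mem hx) (mem_sup_left ha₀)))
    refine ha₀1 (hti x (hLH hx) hxX a₀ ha₀ ?_)
    simpa [commutatorElement_def] using mul_mem h5 (hAX ha₀)
  have hK : ∀ h ∈ 𝐍[T], ∀ g ∈ 𝐍[T], ∀ a ∈ A, a ∉ T → ∀ v ∈ T, v ∉ 𝐂[A] →
      h * ⁅a, v⁆ * h⁻¹ ∈ 𝐂[cj(g, A)] → h⁻¹ * g ∈ XX S T := by
    intro k hh g hg a ha ha1 v hv hvA hz
    by_contra hn
    obtain ⟨x, hx, o⟩ := key _ (mul_mem (inv_mem hh) hg) hn
    have h1 := o.comm_mem a ha v hv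
    refine ha1 (h.cent ⟨hA.le ha, o.mem_K hv (fun h => hvA h.2) ha ⟨h1.1, centralizer_anti hx ?_⟩⟩)
    rw [Amb.centralizer_sup, cj_mul, centralizer_cj]
    exact ⟨h1.2, mem_cj.2 (by simpa using hz)⟩
  obtain ⟨y, hy, hyX⟩ := SetLike.not_le_iff_exists.1 (not_le_XX h)
  obtain ⟨x, hxy, o⟩ := key y hy hyX
  have hLH : A ⊔ cj(x, A) ≤ 𝐍[T] := hxy.trans (sup_le hAN (cj_le_of_mem hAN hy))
  have hx : x ∈ 𝐍[T] := hLH o.x_mem
  obtain ⟨v, hv, hv0⟩ := SetLike.not_le_iff_exists.1 o.ne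
  have v1 : x * v * x⁻¹ ∉ T ⊓ 𝐂[A] := fun H => hv0 (o.disj x o.x_mem o.x_notMem v hv H)
  have v2 : x * v * x⁻¹ ∈ T := conj_mem_of_mem_normalizer hx hv.1
  have hbru : ∀ h ∈ 𝐍[T], h ∉ XX S T → ∃ a' ∈ A, h⁻¹ * (a' * x) ∈ XX S T := by
    intro k hh hhX
    have hz : k * ⁅a₀, x * v * x⁻¹⁆ * k⁻¹ ∉ 𝐂[A] := fun H => hhX (by
      have := hK k hh 1 (one_mem _) a₀ ha₀ ha₀1 _ v2 (fun H => v1 ⟨v2, H⟩) (by rw [cj_one]; exact H)
      simpa using inv_mem this)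
    obtain ⟨a', ha', v', hv', h1⟩ := o.exists_conj
      (conj_mem_of_mem_normalizer hh (o.comm_mem a₀ ha₀ _ v2).1) (fun h => hz h.2)
    refine ⟨a', ha', hK k hh _ (mul_mem (hAN ha') hx) a₀ ha₀ ha₀1 _ v2 (fun H => v1 ⟨v2, H⟩) ?_⟩
    rw [h1, centralizer_cj]
    exact ⟨v', hv'.2, rfl⟩
  have hP : ∀ p ∈ S, p ∈ 𝐍[T] → ∃ t ∈ T, ∃ a ∈ A, p = t * a := fun p hp hpN => by
    have hpX : p⁻¹ ∈ XX S T := inv_mem (le_XX (mem_sup_left ⟨hp, hpN⟩))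
    obtain ⟨a, ha, e⟩ := hbru (p⁻¹ * x) (mul_mem (inv_mem hpN) hx) fun e => o.x_notMem (by
      simpa using mul_mem (inv_mem hpX) e)
    exact ⟨p * a, H.ti h hx o.x_notMem (mul_mem hp (hA.le ha)) (by simpa [mul_assoc] using e),
      a⁻¹, inv_mem ha, by simp⟩
  have hXZ : XX S T ≤ 𝐍[T ⊓ 𝐂[A]] := by
    have : T ⊓ 𝐂[A] = T ⊓ 𝐂[(S ⊓ 𝐍[T]) ⊔ 𝐂[T]] := by
      refine le_antisymm (le_inf inf_le_left ?_)
        (inf_le_inf_left _ (centralizer_anti ((le_inf hA.le hAN).trans le_sup_left)))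
      rw [Amb.centralizer_sup]
      refine le_inf (fun z hz p hp => ?_) (inf_le_left.trans (le_centralizer_iff.1 le_rfl))
      obtain ⟨t, ht, a, ha, rfl⟩ := hP p hp.1 hp.2
      rw [mul_assoc, hz.2 a ha, ← mul_assoc, hVc hz.1 t ht, mul_assoc]
    rw [this]
    exact le_normalizer_inf XX_le (le_normalizer_centralizer inf_le_right)
  have hU : ∀ g ∈ 𝐍[T], ∀ u ∈ T ⊓ 𝐂[A ⊔ cj(x, A)], g * u * g⁻¹ ∈ T ⊓ 𝐂[A] := fun g hg u hu => by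
    by_cases hgX : g ∈ XX S T
    · exact conj_mem_of_mem_normalizer (hXZ hgX) (o.le₀ hu)
    obtain ⟨a, ha, e⟩ := hbru g⁻¹ (inv_mem hg) fun e => hgX (by simpa using inv_mem e)
    have := conj_mem_of_mem_normalizer (hXZ e) (o.le₀ hu)
    rwa [inv_inv, mul_assoc g, hu.2 _ (mul_mem (mem_sup_left ha) o.x_mem), show
      g * (u * (a * x)) * (g * (a * x))⁻¹ = g * u * g⁻¹ by group] at this
  have nU : 𝐍[T] ≤ 𝐍[T ⊓ 𝐂[A ⊔ cj(x, A)]] := fun g hg => mem_normalizer_of_forall fun u hu =>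
    o.disj x o.x_mem o.x_notMem _ (hU g hg u hu) (by
      simpa [mul_assoc] using hU (x * g) (mul_mem hx hg) u hu)
  set U := T ⊓ 𝐂[A ⊔ cj(x, A)] with hUd
  have cm : ∀ a ∈ A, a ∉ T → ∀ t ∈ T, t ∉ A → ⁅a, t⁆ ∉ U := fun a ha h1 t ht h2 e =>
    h1 (h.cent ⟨hA.le ha, o.mem_K ht (fun e => h2 (eZ.le e).2) ha e⟩)
  have sub : ∀ W : Subgroup G, 𝐍[T] ≤ 𝐍[W] → ∀ w ∈ T, w * w ∈ W → w ∉ U →
      ∀ t ∈ T, ∃ v ∈ T, v * v ∈ W ∧ ∃ u ∈ U, t = v * u := fun W hW w hw h1 h2 t ht => by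
    let Y : Subgroup G :=
      { carrier := {v | v ∈ T ∧ v * v ∈ W}
        one_mem' := ⟨one_mem _, by simp⟩
        mul_mem' := fun {a b} ha hb => ⟨mul_mem ha.1 hb.1, by
          rw [mul_assoc, ← mul_assoc b, hVc ha.1 b hb.1, mul_assoc, ← mul_assoc]
          exact mul_mem ha.2 hb.2⟩
        inv_mem' := fun {a} ha => ⟨inv_mem ha.1, by rw [← mul_inv_rev]; exact inv_mem ha.2⟩ }
    have hn : 𝐍[T] ≤ 𝐍[Y] := fun g hg => mem_normalizer_of_forall fun v hv =>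
      ⟨conj_mem_of_mem_normalizer hg hv.1, by
        rw [conj_mul]; exact conj_mem_of_mem_normalizer (hW hg) hv.2⟩
    obtain ⟨a, ha, b, hb, e⟩ := (mem_sup_of_le_normalizer_right
      ((show Y ≤ T from fun v hv => hv.1).trans (le_normalizer.trans nU))).1
      (o.le_sup_of_normalized (Y := Y) (fun v hv => hv.1) (hLH.trans hn) (fun e => h2 (e ⟨hw, h1⟩)) ht)
    exact ⟨a, ha.1, ha.2, b, hb, e⟩
  have sq : ∀ t ∈ T, t * t ∈ U := fun t ht => by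
    obtain ⟨w, hw, h1, h2⟩ : ∃ w ∈ T, w * w ∈ U ∧ w ∉ U := by
      by_contra e; push Not at e
      obtain ⟨k, hk⟩ := isPGroup_iff.1 (good_pgrp h) v hv.1
      have : ∀ j : ℕ, v ^ 2 ^ j ∈ U → v ∈ U := fun j => by
        induction j with
        | zero => simp
        | succ j ih => exact fun e1 => ih (e _ (pow_mem hv.1 _) (by
            rwa [← pow_two, ← pow_mul, ← pow_succ]))
      exact hv0 (this k (hk ▸ one_mem _))
    obtain ⟨a, ha, e, u, hu, rfl⟩ := sub U nU w hw h1 h2 t ht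
    rw [mul_assoc, ← mul_assoc u, hVc ha u hu.1, mul_assoc, ← mul_assoc]
    exact mul_mem e (mul_mem hu hu)
  refine ⟨U, x, hP, eZ ▸ o.le₀, nU, hx, fun z hz h1 h2 => o.disj x o.x_mem o.x_notMem z
    (eZ.ge ⟨hz, h1⟩) (eZ.ge ⟨conj_mem_of_mem_normalizer hx hz, h2⟩), hbru, cm, sq, fun t ht => ?_,
    fun t ht h1 w hw h2 => o.exists_comm ht (fun e => h1 (eZ.le e).2) (eZ.ge ⟨hw, h2⟩)⟩
  have c1 := o.comm_mem a₀ ha₀ _ v2
  refine sub ⊥ le_normalizer_of_normal _ c1.1 ?_ (cm a₀ ha₀ ha₀1 _ v2 fun e => v1 (eZ.ge ⟨v2, e⟩)) t ht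
  generalize x * v * x⁻¹ = s at v2 c1
  have c2 : Commute (a₀ * s * a₀⁻¹) s⁻¹ :=
    hVc (inv_mem v2) _ (conj_mem_of_mem_normalizer (hAN ha₀) v2)
  rw [mem_bot, commutatorElement_def, ← pow_two, c2.mul_pow, conj_pow, pow_two,
    (o.le₀ (sq s v2)).2 a₀ ha₀, inv_pow, pow_two]
  simp

end Hy

end Cfsg.Agent.SylAb
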