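import Mathlib
import Cfsg.Agent.PLocal.Amb

/-! A set of involutions of a `2`-group, each commuting with exactly one other, with abelian
centralizers, generates a dihedral group. -/

set_option autoImplicit false

namespace Cfsg.Agent.SylAb

open Subgroup

universe u

theorem exists_four {G : Type*} [Group G] {u w : G} (hu : u * u = 1) (hw : w * w = 1)
    (hk : ∃ k : ℕ, (u * w) ^ 2 ^ k = 1) (hne : u * w ≠ w * u) :
    ∃ j : ℕ, ∃ y : G, y = (u * w) ^ j ∧ y * y ≠ 1 ∧ y * y * (y * y) = 1 ∧ u * y * u⁻¹ = y⁻¹ ∧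
      w * y * w⁻¹ = y⁻¹ := by
  classical
  have hu' : u⁻¹ = u := inv_eq_of_mul_eq_one_right hu
  have hw' : w⁻¹ = w := inv_eq_of_mul_eq_one_right hw
  have h2 : (u * w) ^ 2 ≠ 1 := fun e => hne (by
    rw [pow_two, mul_eq_one_iff_eq_inv, mul_inv_rev, hu', hw'] at e; exact e)
  have h1 := Nat.find_spec hk
  have h0 := fun m (hm : m < Nat.find hk) => Nat.find_min hk hm
  generalize Nat.find hk = k at h1 h0
  rcases k with _ | _ | k
  · exact (h2 (by rw [pow_zero, pow_one] at h1; rw [h1, one_pow])).elim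
  · exact (h2 (by simpa using h1)).elim
  refine ⟨2 ^ k, _, rfl, fun e => h0 (k + 1) (by omega) ?_, ?_, ?_, ?_⟩
  · rw [pow_succ, pow_mul, pow_two, e]
  · rw [← h1, ← pow_add, ← pow_add]; congr 1; ring
  · rw [← conj_pow, ← inv_pow, mul_inv_rev, hu', hw', ← mul_assoc, hu, one_mul]
  · rw [← conj_pow, ← inv_pow, mul_inv_rev, hu', hw', mul_assoc, mul_assoc, hw, mul_one]

structure DH {P : Type*} [Group P] (C : Set P) : Prop where
  conj : ∀ u ∈ C, ∀ g, g * u * g⁻¹ ∈ C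
  sq : ∀ u ∈ C, u * u = 1
  ne : ∀ u ∈ C, u ≠ 1
  ab : ∀ u ∈ C, ∀ a b, a * u = u * a → b * u = u * b → a * b = b * a
  mate : ∀ u ∈ C, ∃ m ∈ C, m ≠ u ∧ m * u = u * m ∧ (∀ w ∈ C, w * u = u * w → w = u ∨ w = m) ∧
    ∀ t, t * u = u * t → t * t ≠ u * m

namespace DH

variable {P : Type*} [Group P] {C : Set P} (h : DH C) (hP : IsPGroup 2 P)

include h

theorem inv {u : P} (hu : u ∈ C) : u⁻¹ = u := inv_eq_of_mul_eq_one_right (h.sq u hu)

theorem refl_mem {u w : P} (hu : u ∈ C) (hw : w ∈ C) (j : ℕ) : (u * w) ^ j * u ∈ C := by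
  induction j using Nat.twoStepInduction with
  | zero => simpa using hu
  | one => simpa [h.inv hu] using h.conj w hw u
  | more j ih _ =>
    have := h.conj _ ih (u * w)
    rwa [mul_inv_rev, h.inv hu, h.inv hw, show u * w * ((u * w) ^ j * u) * (w * u) =
      (u * w) ^ (j + 2) * u by rw [pow_succ, pow_succ']; simp only [mul_assoc]] at this

include hP

theorem four {u w m : P} (hu : u ∈ C) (hw : w ∈ C) (hne : u * w ≠ w * u)
    (hm : ∀ w ∈ C, w * u = u * w → w = u ∨ w = m) {y : P} (h1 : y * y ≠ 1)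
    (h2 : y * y * (y * y) = 1) (h3 : u * y * u⁻¹ = y⁻¹) : y * y * u = m ∧ y * y * u = u * (y * y) := by
  have e : y * u * y⁻¹ = y * y * u := by rw [← h3, h.inv hu, mul_assoc, ← mul_assoc u, ← mul_assoc u,
    h.sq u hu, one_mul, mul_assoc]
  have c : y * y * u = u * (y * y) := by
    rw [← mul_inv_eq_iff_eq_mul.1 (show u * (y * y) * u⁻¹ = y * y by
      rw [show u * (y * y) * u⁻¹ = u * y * u⁻¹ * (u * y * u⁻¹) by group, h3, ← mul_inv_rev,
        inv_eq_of_mul_eq_one_right h2])]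
  refine ⟨(hm _ (e ▸ h.conj u hu y) ?_).resolve_left fun e => h1 (by simpa using e), c⟩
  rw [c, mul_assoc, c]

theorem exists_z {u₀ : P} (h₀ : u₀ ∈ C) : ∃ z : P, z ≠ 1 ∧ z * z = 1 ∧ (∀ g, g * z = z * g) ∧
    ∀ u ∈ C, u * z ∈ C ∧ (∀ w ∈ C, w * u = u * w → w = u ∨ w = u * z) ∧
      ∀ t, t * u = u * t → t * t ≠ z := by
  choose! m hm h1 h2 h3 h4 using h.mate
  have key : ∀ u ∈ C, ∀ w ∈ C, u * m u = w * m w := fun u hu w hw => by
    by_cases e : u * w = w * u
    · rcases h3 u hu w hw e.symm with rfl | e1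
      · rfl
      · rcases h3 w hw u hu e with e2 | e2
        · rw [e2]
        · rw [← e1, ← e2, e]
    · obtain ⟨j, y, -, k1, k2, k3, k4⟩ := exists_four (h.sq u hu) (h.sq w hw) (hP _) e
      obtain ⟨a1, a2⟩ := h.four hP hu hw e (h3 u hu) k1 k2 k3
      obtain ⟨b1, b2⟩ := h.four hP hw hu (Ne.symm e) (h3 w hw) k1 k2 k4
      rw [← a1, ← b1, a2, b2, ← mul_assoc u, ← mul_assoc w, h.sq u hu, h.sq w hw]
  have e : ∀ u ∈ C, u * (u₀ * m u₀) = m u := fun u hu => by
    rw [key u₀ h₀ u hu, ← mul_assoc, h.sq u hu, one_mul]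
  refine ⟨u₀ * m u₀, fun e1 => h1 u₀ h₀ ?_, ?_, fun g => ?_, fun u hu =>
    ⟨e u hu ▸ hm u hu, fun w hw c => e u hu ▸ h3 u hu w hw c, key u hu u₀ h₀ ▸ h4 u hu⟩⟩
  · rw [← e u₀ h₀, e1, mul_one]
  · rw [mul_assoc, ← mul_assoc (m u₀), h2 u₀ h₀, mul_assoc, h.sq _ (hm u₀ h₀), mul_one, h.sq u₀ h₀]
  · have i1 := h.conj u₀ h₀ g
    rcases h3 _ i1 _ (h.conj _ (hm u₀ h₀) g) (by
      rw [conj_mul, conj_mul, h2 u₀ h₀]) with e1 | e1
    · exact (h1 u₀ h₀ (by simpa using e1)).elim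
    · rw [← mul_inv_eq_iff_eq_mul, ← conj_mul, e1, key _ i1 u₀ h₀]

end DH

theorem DH.exists_closure : ∀ (n : ℕ) {P : Type u} [Group P] [Finite P] {C : Set P},
    Nat.card P = n → DH C → IsPGroup 2 P → C.Nonempty →
    ∃ u ∈ C, ∃ v ∈ C, C ⊆ closure {u, v} := by
  intro n
  induction n using Nat.strong_induction_on with | _ n ih => ?_
  intro P _ _ C hn h hP ⟨u₀, h₀⟩
  obtain ⟨z, z1, z2, z3, hz⟩ := h.exists_z hP h₀
  have zy : ∀ u ∈ C, ∀ w ∈ C, u * w ≠ w * u → ∃ j : ℕ, (u * w) ^ j * (u * w) ^ j = z :=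
    fun u hu w hw e => by
      obtain ⟨j, y, rfl, k1, k2, k3, -⟩ := exists_four (h.sq u hu) (h.sq w hw) (hP _) e
      obtain ⟨a1, a2⟩ := h.four hP hu hw e (hz u hu).2.1 k1 k2 k3
      exact ⟨j, mul_left_cancel (a2.symm.trans a1)⟩
  by_cases hA : ∃ u ∈ C, ∀ w ∈ C, w * u = u * w
  · obtain ⟨u, hu, hc⟩ := hA
    refine ⟨u, hu, u * z, (hz u hu).1, fun w hw => subset_closure ?_⟩
    simpa using (hz u hu).2.1 w hw (hc w hw)
  push Not at hA
  have part : ∀ u ∈ C, ∃ v ∈ C, v * u = u * v * z := fun u hu => by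
    obtain ⟨w, hw, e⟩ := hA u hu
    obtain ⟨j, y, rfl, k1, k2, k3, -⟩ := exists_four (h.sq u hu) (h.sq w hw) (hP _) e.symm
    obtain ⟨a1, -⟩ := h.four hP hu hw e.symm (hz u hu).2.1 k1 k2 k3
    refine ⟨_, h.refl_mem hu hw j, ?_⟩
    generalize (u * w) ^ j = y at k3 a1
    rw [z3 u, mul_left_inj] at a1
    rw [h.inv hu] at k3
    rw [mul_assoc, h.sq u hu, mul_one, ← mul_assoc u, k3, ← a1, inv_mul_cancel_left]
  choose! v hv hvu using part
  have nc : ∀ u ∈ C, v u * u ≠ u * v u := fun u hu e => z1 (by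
    have := hvu u hu
    rw [e] at this; simpa using this)
  have three : ∀ u ∈ C, ∀ w ∈ C, w * u = u * w * z → w = v u ∨ w = v u * z := fun u hu w hw e => by
    by_cases c : v u * w = w * v u
    · exact (hz _ (hv u hu)).2.1 w hw c.symm
    obtain ⟨j, hj⟩ := zy _ (hv u hu) w hw c
    refine ((hz u hu).2.2 _ (Commute.pow_left (show Commute (v u * w) u from ?_) j) hj).elim
    show v u * w * u = u * (v u * w)
    rw [mul_assoc, e, ← mul_assoc, ← mul_assoc, hvu u hu, mul_assoc _ z, ← z3 w, mul_assoc,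
      mul_assoc w, z2, mul_one, mul_assoc]
  have mN : ∀ x, x ∈ zpowers z ↔ x = 1 ∨ x = z := fun x => by
    refine ⟨fun hx => ?_, fun hx => hx.elim (· ▸ one_mem _) (· ▸ mem_zpowers z)⟩
    refine zpowers_le.2 (show z ∈ (⟨⟨⟨{x | x = 1 ∨ x = z}, ?_⟩, Or.inl rfl⟩, ?_⟩ : Subgroup P) from
      Or.inr rfl) hx
    · rintro _ _ (rfl | rfl) (rfl | rfl) <;> simp [z2]
    · rintro _ (rfl | rfl)
      · simp
      · exact Or.inr (inv_eq_of_mul_eq_one_right z2)
  haveI : (zpowers z).Normal := ⟨fun x hx g => by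
    rcases (mN x).1 hx with rfl | rfl
    · simp
    · rw [z3, mul_inv_cancel_right]; exact hx⟩
  set f := QuotientGroup.mk' (zpowers z) with hf
  have fz : f z = 1 := (QuotientGroup.eq_one_iff z).2 (mem_zpowers z)
  have fe : ∀ a b, f a = f b → a = b ∨ a = b * z := fun a b e => by
    obtain ⟨x, hx, rfl⟩ := (QuotientGroup.mk'_eq_mk' _).1 e.symm
    rcases (mN x).1 hx with rfl | rfl <;> simp
  have dec : ∀ u ∈ C, ∀ a, f a * f u = f u * f a →
      ∃ t, t * u = u * t ∧ (f a = f t ∨ f a = f t * f (v u)) := fun u hu a e => by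
    rcases fe _ _ (show f (a * u) = f (u * a) by simpa using e) with e1 | e1
    · exact ⟨a, e1, Or.inl rfl⟩
    · refine ⟨a * v u, ?_, Or.inr ?_⟩
      · rw [mul_assoc, hvu u hu, ← mul_assoc, ← mul_assoc, e1, mul_assoc _ z, ← z3, mul_assoc,
          mul_assoc (v u), z2, mul_one, mul_assoc]
      · rw [← map_mul, mul_assoc, h.sq _ (hv u hu), mul_one]
  have tv : ∀ u ∈ C, ∀ t, t * u = u * t → Commute (f t) (f (v u)) := fun u hu t e => by
    have : t * v u * t⁻¹ * u = u * (t * v u * t⁻¹) * z := by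
      have e' : t⁻¹ * u = u * t⁻¹ := (show Commute t u from e).inv_left
      rw [mul_assoc, e', ← mul_assoc, mul_assoc t, hvu u hu, ← mul_assoc, ← mul_assoc, e, mul_assoc _ z,
        ← z3]
      simp only [mul_assoc]
    have e2 : f (t * v u * t⁻¹) = f (v u) := by
      rcases three u hu _ (h.conj _ (hv u hu) t) this with e1 | e1 <;> simp [e1, fz]
    rw [map_mul, map_mul, map_inv, mul_inv_eq_iff_eq_mul] at e2
    exact e2
  have hq : DH (f '' C) := by
    refine ⟨?_, ?_, ?_, ?_, ?_⟩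
    · rintro _ ⟨u, hu, rfl⟩ g
      obtain ⟨g, rfl⟩ := QuotientGroup.mk'_surjective _ g
      exact ⟨_, h.conj u hu g, by rw [map_mul, map_mul, map_inv]⟩
    · rintro _ ⟨u, hu, rfl⟩
      rw [← map_mul, h.sq u hu, map_one]
    · rintro _ ⟨u, hu, rfl⟩ e
      rcases fe u 1 (by simpa using e) with e1 | e1
      · exact h.ne u hu e1
      · exact nc u hu (by rw [e1, one_mul, z3])
    · rintro _ ⟨u, hu, rfl⟩ a b ha hb
      obtain ⟨a, rfl⟩ := QuotientGroup.mk'_surjective _ a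
      obtain ⟨b, rfl⟩ := QuotientGroup.mk'_surjective _ b
      obtain ⟨s, hs, ea⟩ := dec u hu a ha
      obtain ⟨t, ht, eb⟩ := dec u hu b hb
      have c : Commute (f s) (f t) := (show Commute s t from h.ab u hu s t hs ht).map f
      have c1 := tv u hu s hs
      have c2 := tv u hu t ht
      show Commute (f a) (f b)
      rcases ea with ea | ea <;> rcases eb with eb | eb <;> rw [ea, eb]
      · exact c
      · exact c.mul_right c1
      · exact c.mul_left c2.symm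
      · exact (c.mul_right c1).mul_left (c2.symm.mul_right (Commute.refl _))
    · rintro _ ⟨u, hu, rfl⟩
      refine ⟨f (v u), ⟨_, hv u hu, rfl⟩, fun e => ?_, ?_, ?_, fun a ha e => ?_⟩
      · rcases fe _ _ e with e1 | e1 <;> refine nc u hu ?_ <;> rw [e1]
        rw [mul_assoc, ← z3]
      · rw [← map_mul, hvu u hu, map_mul, fz, mul_one, map_mul]
      · rintro _ ⟨w, hw, rfl⟩ e
        rcases fe _ _ (show f (w * u) = f (u * w) by simpa using e) with e1 | e1
        · rcases (hz u hu).2.1 w hw e1 with rfl | rfl <;> simp [fz]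
        · rcases three u hu w hw e1 with rfl | rfl <;> simp [fz]
      · obtain ⟨a, rfl⟩ := QuotientGroup.mk'_surjective _ a
        obtain ⟨s, hs, ea⟩ := dec u hu a ha
        have e1 : f (u * v u) = f (s * s) := by
          rw [map_mul, ← e, map_mul]
          rcases ea with ea | ea <;> rw [ea]
          rw [mul_assoc, ← mul_assoc (f (v u)), ← (tv u hu s hs).eq, mul_assoc, ← map_mul f (v u),
            h.sq _ (hv u hu), map_one, mul_one]
        have c : Commute (s * s) u := Commute.mul_left hs hs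
        have c' : Commute (u * v u) u := by
          rcases fe _ _ e1 with e2 | e2 <;> rw [e2]
          exacts [c, c.mul_left (z3 u).symm]
        exact nc u hu (by simpa [mul_assoc] using c'.eq)
  have hlt : Nat.card (P ⧸ zpowers z) < n := by
    rw [← hn, card_eq_card_quotient_mul_card_subgroup (zpowers z)]
    exact lt_mul_of_one_lt_right Nat.card_pos
      ((one_lt_card_iff_ne_bot _).2 fun e => z1 (zpowers_eq_bot.1 e))
  obtain ⟨_, ⟨a, ha, rfl⟩, _, ⟨b, hb, rfl⟩, hc⟩ :=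
    ih _ hlt rfl hq (hP.to_quotient _) ⟨_, u₀, h₀, rfl⟩
  have sub : ∀ H : Subgroup P, z ∈ H → a ∈ H → b ∈ H → C ⊆ H := fun H h1 h2 h3 w hw => by
    obtain ⟨x, hx, e⟩ : f w ∈ H.map f := (closure_le _).2 (by
      rintro _ (rfl | rfl); exacts [⟨a, h2, rfl⟩, ⟨b, h3, rfl⟩]) (hc ⟨w, hw, rfl⟩)
    rcases fe _ _ e.symm with rfl | rfl
    exacts [hx, mul_mem hx h1]
  by_cases c : a * b = b * a
  · exact (nc a ha (mem_centralizer_singleton_iff.1 (sub (centralizer {a})
      (mem_centralizer_singleton_iff.2 (z3 a).symm) (mem_centralizer_singleton_iff.2 rfl)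
      (mem_centralizer_singleton_iff.2 c.symm) (hv a ha)))).elim
  · obtain ⟨j, hj⟩ := zy a ha b hb c
    have m1 : a ∈ closure ({a, b} : Set P) := subset_closure (by simp)
    have m2 : b ∈ closure ({a, b} : Set P) := subset_closure (by simp)
    exact ⟨a, ha, b, hb, sub _ (hj ▸ mul_mem (pow_mem (mul_mem m1 m2) j) (pow_mem (mul_mem m1 m2) j))
      m1 m2⟩

end Cfsg.Agent.SylAb
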