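import Mathlib
import Cfsg.Agent.SylAb.FF

/-! Abelian Sylow `2`-intersections: pairs of members of the conjugation family, and the case of
a section `SL₂(q)` with `q > 2`. -/

set_option autoImplicit false
set_option linter.unusedSectionVars false

namespace Cfsg.Agent.SylAb

open Cfsg Subgroup Cfsg.Agent.PLocal Cfsg.Agent.PLocal.Amb Cfsg.Agent.PLocal.AG
open Cfsg.Agent.DxD
open scoped commutatorElement

variable {G : Type*} [Group G] [Finite G]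

def Gd (S T : Subgroup G) : Prop := ∃ X, Good 2 S T X

theorem Gd.cj {S T : Subgroup G} (h : Gd S T) {y : G} (hy : y ∈ 𝐍[S]) : Gd S cj(y, T) :=
  h.elim fun _ h => ⟨_, h.cj hy⟩

theorem Gd.le {S T : Subgroup G} (h : Gd S T) : T ≤ S := h.elim fun _ h => h.le

theorem Gd.cent {S T : Subgroup G} (h : Gd S T) {g : G} (hg : g ∈ S) (e : ∀ t ∈ T, t * g = g * t) :
    g ∈ T := h.elim fun _ h => h.cent ⟨hg, e⟩

theorem Gd.ab {S T : Subgroup G} (h : Gd S T) (H : Hy S) {a b : G} (ha : a ∈ T) (hb : b ∈ T) :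
    a * b = b * a := h.elim fun _ h => H.ab h hb a ha

theorem Gd.eq {S T A : Subgroup G} (h : Gd S T) (hA : Gd S A) (H : Hy S) (e : T ≤ A) : T = A :=
  le_antisymm e fun a ha => h.cent (hA.le ha) fun _ ht => hA.ab H (e ht) ha

structure Pr (S T A : Subgroup G) : Prop where
  H : Hy S
  gT : Gd S T
  gA : Gd S A
  ne : T ≠ A
  AN : A ≤ 𝐍[T]
  TN : T ≤ 𝐍[A]
  card : Nat.card T = Nat.card A

/-- `|N_S(T) : T| ≤ 2`. -/
def Two (S T : Subgroup G) : Prop :=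
  ∀ p ∈ S, p ∈ 𝐍[T] → p ∉ T → ∀ q ∈ S, q ∈ 𝐍[T] → q ∉ T → p * q ∈ T

theorem Two.cj {S T : Subgroup G} (h : Two S T) {y : G} (hy : y ∈ S) : Two S cj(y, T) := by
  intro p hp h1 h2 q hq h3 h4
  rw [normalizer_cj] at h1 h3
  have := h _ (mul_mem (mul_mem (inv_mem hy) hp) hy) (mem_cj.1 h1) (fun e => h2 (mem_cj.2 e))
    _ (mul_mem (mul_mem (inv_mem hy) hq) hy) (mem_cj.1 h3) (fun e => h4 (mem_cj.2 e))
  exact mem_cj.2 (by simpa [mul_assoc] using this)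

namespace Pr

variable {S T A : Subgroup G} (h : Pr S T A)
include h

theorem symm : Pr S A T := ⟨h.H, h.gA, h.gT, h.ne.symm, h.TN, h.AN, h.card.symm⟩

theorem not_le : ¬ A ≤ T := fun e => h.ne (h.gA.eq h.gT h.H e).symm

theorem ff : ∃ U x, FF S T A U x := by
  obtain ⟨X, hX⟩ := h.gT
  obtain ⟨Y, hY⟩ := h.gA
  exact h.H.ff hX hY h.not_le h.AN h.TN h.card.le

theorem cj {y : G} (hy : y ∈ 𝐍[S]) : Pr S cj(y, T) cj(y, A) :=
  ⟨h.H, h.gT.cj hy, h.gA.cj hy, fun e => h.ne (cj_inj.1 e), by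
    rw [normalizer_cj]; exact cj_mono y h.AN, by rw [normalizer_cj]; exact cj_mono y h.TN, by
    rw [card_cj, card_cj, h.card]⟩

theorem le {p : G} (hp : p ∈ S) (h1 : p ∈ 𝐍[T]) : ∃ t ∈ T, ∃ a ∈ A, p = t * a :=
  h.ff.elim fun _ f => f.elim fun _ f => f.le p hp h1

theorem mem_N {p : G} (hp : p ∈ S) (h1 : p ∈ 𝐍[T]) : p ∈ 𝐍[A] := by
  obtain ⟨t, ht, a, ha, rfl⟩ := h.le hp h1
  exact mul_mem (h.TN ht) (le_normalizer ha)

theorem P_eq : S ⊓ 𝐍[T] = S ⊓ 𝐍[A] :=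
  le_antisymm (fun _ hp => ⟨hp.1, h.mem_N hp.1 hp.2⟩) fun _ hp => ⟨hp.1, h.symm.mem_N hp.1 hp.2⟩

theorem om {t : G} (ht : t ∈ T) : ∃ v ∈ T, v * v = 1 ∧ ∃ u ∈ T, u ∈ A ∧ t = v * u := by
  obtain ⟨U, x, f⟩ := h.ff
  obtain ⟨v, hv, e, u, hu, e1⟩ := f.om t ht
  exact ⟨v, hv, e, u, (f.U_le hu).1, (f.U_le hu).2, e1⟩

theorem exists_inv : ∃ v ∈ T, v * v = 1 ∧ v ∉ A := by
  obtain ⟨t, ht, h1⟩ := SetLike.not_le_iff_exists.1 h.symm.not_le
  obtain ⟨v, hv, e, u, -, hu, rfl⟩ := h.om ht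
  exact ⟨v, hv, e, fun e => h1 (mul_mem e hu)⟩

theorem zc {z p : G} (h1 : z ∈ T) (h2 : z ∈ A) (hp : p ∈ S) (h3 : p ∈ 𝐍[T]) : z * p = p * z := by
  obtain ⟨t, ht, a, ha, rfl⟩ := h.le hp h3
  rw [← mul_assoc, h.gT.ab h.H h1 ht, mul_assoc, h.gA.ab h.H h2 ha, mul_assoc]

theorem cT {a t : G} (ha : a ∈ A) (ht : t ∈ T) : ⁅a, t⁆ ∈ T :=
  mul_mem (conj_mem_of_mem_normalizer (h.AN ha) ht) (inv_mem ht)

theorem cA {a t : G} (ha : a ∈ A) (ht : t ∈ T) : ⁅a, t⁆ ∈ A := by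
  rw [← commutatorElement_inv]; exact inv_mem (h.symm.cT ht ha)

theorem csq {a t : G} (ha : a ∈ A) (ht : t ∈ T) : ⁅a, t⁆ * ⁅a, t⁆ = 1 := by
  obtain ⟨U, x, f⟩ := h.ff
  have c2 : Commute (a * t * a⁻¹) t⁻¹ :=
    h.gT.ab h.H (conj_mem_of_mem_normalizer (h.AN ha) ht) (inv_mem ht)
  rw [commutatorElement_def, ← pow_two, c2.mul_pow, conj_pow, pow_two,
    h.gA.ab h.H ha (f.U_le (f.sq t ht)).2, inv_pow, pow_two]
  simp

theorem cne {a t : G} (ha : a ∈ A) (h1 : a ∉ T) (ht : t ∈ T) (h2 : t ∉ A) : ⁅a, t⁆ ≠ 1 := fun e => by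
  obtain ⟨U, x, f⟩ := h.ff
  exact f.comm a ha h1 t ht h2 (e ▸ one_mem _)

theorem invol {p : G} (hp : p ∈ S) (h1 : p ∈ 𝐍[T]) (e : p * p = 1) : p ∈ T ∨ p ∈ A := by
  obtain ⟨U, x, f⟩ := h.ff
  obtain ⟨t, ht, a, ha, rfl⟩ := f.le p hp h1
  by_contra h2
  push Not at h2
  refine f.comm a ha (fun e => h2.1 (mul_mem ht e)) t ht (fun e => h2.2 (mul_mem e ha)) ?_
  obtain ⟨v, hv, e1, u, hu, hu', e2⟩ := h.symm.om ha
  have e3 : a * a = u * u := by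
    rw [e2, mul_assoc, ← mul_assoc u, h.gA.ab h.H hu hv, mul_assoc, ← mul_assoc, e1, one_mul]
  have e4 : ⁅a, t⁆ = (t * (a * a) * t)⁻¹ := by
    rw [commutatorElement_def, show a * t = t⁻¹ * (t * a * (t * a)) * a⁻¹ by group, e]; group
  rw [e4, e3, h.gT.ab h.H ht (mul_mem hu' hu'), mul_assoc]
  exact Subgroup.inv_mem _ (mul_mem (f.sq u hu') (f.sq t ht))

theorem J {B : Subgroup G} (hB : Gd S B) (h1 : ∀ v ∈ B, v * v = 1 → v ∈ 𝐍[T]) : B = T ∨ B = A := by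
  have key : ∀ C, Gd S C → (∀ v ∈ B, v * v = 1 → v ∈ C) → B = C := fun C hC e => by
    obtain ⟨X, hX⟩ := id hB
    exact (hC.eq hB h.H fun c hc => mem_of_om h.H.syl.pgrp hX (h.H.ab hX) (hC.le hc)
      fun v hv e1 => hC.ab h.H (e v hv e1) hc).symm
  have h2 := fun v hv e => h.invol (hB.le hv) (h1 v hv e) e
  by_cases e : ∀ v ∈ B, v * v = 1 → v ∈ T
  · exact Or.inl (key T h.gT e)
  push Not at e
  obtain ⟨v, hv, v2, hvT⟩ := e
  refine Or.inr (key A h.gA fun w hw w2 => (h2 w hw w2).elim (fun e => ?_) id)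
  rcases h2 _ (mul_mem hv hw) (by
    rw [mul_assoc, ← mul_assoc w, hB.ab h.H hw hv, mul_assoc, ← mul_assoc, v2, w2, mul_one]) with e1 | e1
  · exact (hvT ((mul_mem_cancel_right e).1 e1)).elim
  · exact (mul_mem_cancel_left ((h2 v hv v2).resolve_left hvT)).1 e1

theorem cent {w s : G} (hw : w ∈ T) (h1 : w ∉ A) (hs : s ∈ S) (e : s * w = w * s) : s ∈ T := by
  have := eq_of_inf_normalizer_le (p := 2) (R := T) (T := S ⊓ centralizer {w})
    (h.H.syl.pgrp.to_le inf_le_left)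
    (fun t ht => ⟨h.gT.le ht, mem_centralizer_singleton_iff.2 (h.gT.ab h.H ht hw)⟩) fun s hs => by
      obtain ⟨t, ht, a, ha, rfl⟩ := h.le hs.1.1 hs.2
      by_contra h2
      refine h.cne ha (fun e => h2 (mul_mem ht e)) hw h1 (commutatorElement_eq_one_iff_mul_comm.2 ?_)
      have := mem_centralizer_singleton_iff.1 hs.1.2
      rwa [← mul_assoc w, h.gT.ab h.H hw ht, mul_assoc, mul_assoc, mul_right_inj] at this
  rw [this]
  exact ⟨hs, mem_centralizer_singleton_iff.2 e⟩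

theorem swap {y : G} (hy : y ∈ S) (h1 : y ∈ 𝐍[S ⊓ 𝐍[T]]) (h2 : y ∉ 𝐍[T]) : cj(y, T) = A :=
  (h.J (h.gT.cj (le_normalizer hy)) fun _ hv _ =>
    (cj_le_of_mem_normalizer (le_inf h.gT.le le_normalizer) h1 hv).2).resolve_left
      fun e => h2 (cj_eq_iff.1 e)

theorem swap' {y : G} (hy : y ∈ S) (h1 : y ∈ 𝐍[S ⊓ 𝐍[T]]) (h2 : y ∉ 𝐍[T]) : cj(y, A) = T :=
  h.symm.swap hy (h.P_eq ▸ h1) fun e => h2 (h.symm.mem_N hy e)

theorem mul_mem_N {y w : G} (hy : y ∈ S) (h1 : y ∈ 𝐍[S ⊓ 𝐍[T]]) (h2 : y ∉ 𝐍[T]) (hw : w ∈ S)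
    (h3 : w ∈ 𝐍[S ⊓ 𝐍[T]]) (h4 : w ∉ 𝐍[T]) : y * w ∈ 𝐍[T] :=
  cj_eq_iff.1 (by rw [cj_mul, h.swap hw h3 h4, h.swap' hy h1 h2])

theorem lemA {B : Subgroup G} (hB : Gd S B) {w t : G} (hw : w ∈ B) (h1 : w ∈ 𝐍[S ⊓ 𝐍[T]])
    (h2 : w ∉ 𝐍[T]) (w2 : w * w = 1) (ht : t ∈ T) (h3 : t ∈ 𝐍[B]) : t ∈ A := by
  have ha : w * t * w⁻¹ ∈ A := h.swap (hB.le hw) h1 h2 ▸ conj_mem_cj w ht
  have hc : w * t * w⁻¹ * t⁻¹ ∈ B := by
    simpa [mul_assoc] using mul_mem hw (conj_mem_of_mem_normalizer h3 (B.inv_mem hw))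
  have wi : w⁻¹ = w := inv_eq_of_mul_eq_one_right w2
  have e := hB.ab h.H hw hc
  rcases h.invol (hB.le hc) (mul_mem (h.AN ha) (le_normalizer (T.inv_mem ht))) (by
    rw [wi] at e ⊢
    calc w * t * w * t⁻¹ * (w * t * w * t⁻¹) = w * t * w * t⁻¹ * w * (t * w * t⁻¹) := by group
      _ = w * w * (t * (w * w) * t⁻¹) := by rw [← e]; group
      _ = 1 := by rw [w2]; simp) with e1 | e1
  · have : w * (w * t * w⁻¹) * w⁻¹ ∈ A := h.swap (hB.le hw) h1 h2 ▸ conj_mem_cj w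
      ((mul_mem_cancel_right (T.inv_mem ht)).1 e1)
    rwa [wi, ← mul_assoc, ← mul_assoc, w2, one_mul, mul_assoc, w2, mul_one] at this
  · simpa using (mul_mem_cancel_left ha).1 e1

theorem exists_two (h2 : ¬ Two S A) : ∃ u ∈ T, ∃ v ∈ T, u * u = 1 ∧ v * v = 1 ∧ u ∉ A ∧ v ∉ A ∧
    u * v ∉ A := by
  unfold Two at h2
  push Not at h2
  obtain ⟨p, hp, p1, p2, q, hq, q1, q2, e⟩ := h2
  obtain ⟨a, ha, s, hs, rfl⟩ := h.symm.le hp p1
  obtain ⟨b, hb, t, ht, rfl⟩ := h.symm.le hq q1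
  obtain ⟨u, hu, u2, c, hc, hc', rfl⟩ := h.om hs
  obtain ⟨v, hv, v2, d, hd, hd', rfl⟩ := h.om ht
  refine ⟨u, hu, v, hv, u2, v2, fun e => p2 (mul_mem ha (mul_mem e hc')),
    fun e => q2 (mul_mem hb (mul_mem e hd')), fun e1 => e ?_⟩
  rw [show a * (u * c) * (b * (v * d)) = a * (u * (c * b) * u⁻¹) * (u * v) * d by group]
  exact mul_mem (mul_mem (mul_mem ha (conj_mem_of_mem_normalizer (h.TN hu) (mul_mem hc' hb))) e1) hd'

theorem lemA' (h2 : ¬ Two S A) {B C : Subgroup G} (k : Pr S B C) (hT : T ≤ 𝐍[S ⊓ 𝐍[B]]) {w : G}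
    (hw : w ∈ B) (h1 : w ∈ 𝐍[S ⊓ 𝐍[T]]) (w2 : w * w = 1) : w ∈ 𝐍[T] := by
  by_contra h3
  obtain ⟨u, hu, v, hv, -, -, u1, v1, e⟩ := h.exists_two h2
  exact e (h.lemA k.gT hw h1 h3 w2 (mul_mem hu hv) (k.mul_mem_N (h.gT.le hu) (hT hu)
    (fun e => u1 (h.lemA k.gT hw h1 h3 w2 hu e)) (h.gT.le hv) (hT hv)
    fun e => v1 (h.lemA k.gT hw h1 h3 w2 hv e)))

theorem lemB (h2 : ¬ Two S A) : S ≤ 𝐍[S ⊓ 𝐍[T]] := by
  by_contra e
  obtain ⟨w, hw, w1⟩ := SetLike.exists_of_lt (lt_inf_normalizer h.H.syl.pgrp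
    (lt_of_le_of_ne (inf_le_left (a := S) (b := 𝐍[S ⊓ 𝐍[T]])) fun e1 => e (inf_eq_left.1 e1)))
  have k := h.cj (le_normalizer hw.1)
  have eP : S ⊓ 𝐍[cj(w, T)] = cj(w, S ⊓ 𝐍[T]) := by rw [cj_inf, cj_of_mem hw.1, normalizer_cj]
  have hT : T ≤ 𝐍[S ⊓ 𝐍[cj(w, T)]] := fun t ht => by
    rw [eP, normalizer_cj]
    exact mem_cj.2 (inv_conj_mem_of_mem_normalizer hw.2
      ⟨h.gT.le ht, le_normalizer ⟨h.gT.le ht, le_normalizer ht⟩⟩).2
  have hle : cj(w, S ⊓ 𝐍[T]) ≤ 𝐍[S ⊓ 𝐍[T]] :=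
    (cj_le_of_mem_normalizer (le_inf inf_le_left le_normalizer) hw.2).trans inf_le_right
  have l : ∀ B, B = T ∨ B = A → B ≤ 𝐍[T] := by
    rintro _ (rfl | rfl); exacts [le_normalizer, h.AN]
  have j1 := l _ (h.J k.gT fun v hv v2 => h.lemA' h2 k hT hv
    (hle (eP.le ⟨k.gT.le hv, le_normalizer hv⟩)) v2)
  have j2 := l _ (h.J k.gA fun v hv v2 => h.lemA' h2 k.symm (k.P_eq ▸ hT) hv
    (hle (eP.le ⟨k.gA.le hv, k.AN hv⟩)) v2)
  refine w1 ⟨hw.1, mem_normalizer_of_cj_le (eP ▸ fun p hp => ⟨hp.1, ?_⟩)⟩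
  obtain ⟨t, ht, a, ha, rfl⟩ := k.le hp.1 hp.2
  exact mul_mem (j1 ht) (j2 ha)

end Pr

theorem Gd.exists_pr {S T : Subgroup G} (h : Gd S T) (H : Hy S) (hn : ¬ S ≤ 𝐍[T]) :
    ∃ y ∈ S, y ∈ 𝐍[S ⊓ 𝐍[T]] ∧ y ∉ 𝐍[T] ∧ Pr S T cj(y, T) := by
  obtain ⟨y, hy, y1⟩ := SetLike.exists_of_lt (lt_inf_normalizer H.syl.pgrp
    (lt_of_le_of_ne (inf_le_left (a := S) (b := 𝐍[T])) fun e1 => hn (inf_eq_left.1 e1)))
  refine ⟨y, hy.1, hy.2, fun e => y1 ⟨hy.1, e⟩, H, h, h.cj (le_normalizer hy.1),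
    fun e => y1 ⟨hy.1, cj_eq_iff.1 e.symm⟩,
    (cj_le_of_mem_normalizer (le_inf h.le le_normalizer) hy.2).trans inf_le_right, fun t ht => ?_,
    (card_cj _ _).symm⟩
  rw [normalizer_cj]
  exact mem_cj.2 (inv_conj_mem_of_mem_normalizer hy.2 ⟨h.le ht, le_normalizer ht⟩).2

theorem Pr.lemC {S T A B C : Subgroup G} (h : Pr S T A) (h2 : ¬ Two S A) (k : Pr S B C)
    (k2 : Two S B) {w : G} (hw : w ∈ B) (w1 : w ∉ C) (w2 : w * w = 1) : w ∈ 𝐍[T] := by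
  by_contra h3
  have H := h.H
  have hwS := k.gT.le hw
  have wi : w⁻¹ = w := inv_eq_of_mul_eq_one_right w2
  have sw := h.swap hwS (h.lemB h2 hwS) h3
  have key : ∀ u ∈ T, u * u = 1 → u ∉ A → ∀ a, a = w * u * w → a ∈ A ∧ a * a = 1 ∧
      w * (a * u) * w = (a * u)⁻¹ ∧ a * u * (a * u) ≠ 1 ∧ a * u * (a * u) ∈ B ∧ a * u ∈ S ∧
      a * u ∈ 𝐍[T] ∧ a * u ∈ 𝐍[B] ∧ a * u ∉ B := by
    rintro u hu u2 u1 a e
    have ha : a ∈ A := by rw [e, ← sw]; simpa [wi] using conj_mem_cj w hu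
    have a2 : a * a = 1 := by
      rw [e, mul_assoc, ← mul_assoc w (w * u), ← mul_assoc w w, w2, one_mul, mul_assoc, ← mul_assoc u,
        u2, one_mul, w2]
    have e1 : w * a = u * w := by rw [e, ← mul_assoc, ← mul_assoc, w2, one_mul]
    have a1 : a ∉ T := fun e2 => u1 (by
      have := sw ▸ conj_mem_cj w e2
      rwa [e1, mul_inv_cancel_right] at this)
    have ec : a * u * (a * u) = ⁅a, u⁆ := by
      rw [commutatorElement_def, inv_eq_of_mul_eq_one_right a2, inv_eq_of_mul_eq_one_right u2, ← mul_assoc]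
    have e2 : w * (a * u) * w = (a * u)⁻¹ := by
      rw [mul_inv_rev, inv_eq_of_mul_eq_one_right a2, inv_eq_of_mul_eq_one_right u2, ← mul_assoc, e1,
        e, mul_assoc, mul_assoc, mul_assoc]
    have hd : a * u ∈ S := mul_mem (h.gA.le ha) (h.gT.le hu)
    have c2 := h.csq ha hu
    have c1 := h.cne ha a1 hu u1
    have hN : a * u ∈ 𝐍[T] := mul_mem (h.AN ha) (le_normalizer hu)
    rw [← ec] at c1 c2
    refine ⟨ha, a2, ?_⟩
    generalize a * u = d at e2 hd c1 c2 hN ⊢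
    have e3 : d * w = w * d⁻¹ := by rw [← e2, ← mul_assoc, ← mul_assoc, w2, one_mul]
    have e4 : d * w * d⁻¹ = w * (d * d) := by
      rw [e3, mul_assoc, ← mul_inv_rev, inv_eq_of_mul_eq_one_right c2]
    have hc : d * d ∈ B := k.cent hw w1 (mul_mem hd hd) (by rw [mul_assoc, e3, ← mul_assoc, e4])
    refine ⟨e2, c1, hc, hd, hN, mem_normalizer_of_forall fun t ht => k.cent hw w1
      (mul_mem (mul_mem hd (k.gT.le ht)) (inv_mem hd)) ?_, fun e5 => c1 ?_⟩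
    · have c3 : Commute (d * t * d⁻¹) (w * (d * d)) := by
        rw [← e4]; exact (show Commute t w from k.gT.ab H ht hw).conj d
      have c4 : Commute (d * t * d⁻¹) (d * d) := by
        have := (show Commute t (d * d) from k.gT.ab H ht hc).conj d
        rwa [← mul_assoc, mul_inv_cancel_right] at this
      simpa only [mul_inv_cancel_right] using (c3.mul_right c4.inv_right).eq
    · rw [k.gT.ab H e5 hw, mul_inv_cancel_right] at e4
      simpa using e4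
  obtain ⟨u, hu, v, hv, u2, v2, u1, v1, e⟩ := h.exists_two h2
  have cuv := h.gT.ab H hu hv
  obtain ⟨ha, -, a1, -, a3, a4, a5, a6, a7⟩ := key u hu u2 u1 _ rfl
  obtain ⟨hb, b0, b1, -, -, b4, b5, b6, b7⟩ := key v hv v2 v1 _ rfl
  obtain ⟨-, -, -, c2, -, c4, -, c6, c7⟩ := key (u * v) (mul_mem hu hv) (by
    rw [mul_assoc, ← mul_assoc v, ← cuv, mul_assoc, v2, mul_one, u2]) e (w * u * w * (w * v * w)) (by
    rw [mul_assoc, ← mul_assoc w (w * v), ← mul_assoc w w, w2, one_mul, mul_assoc, mul_assoc, mul_assoc])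
  generalize w * u * w = a at *
  generalize w * v * w = b at *
  have z1 := h.csq hb hu
  have z2 := fun p => h.zc (p := p) (h.cT hb hu) (h.cA hb hu)
  have e1 : a * b * (u * v) = a * u * (b * v) * ⁅b, u⁆ := by
    rw [mul_assoc (a * u), ← z2 _ b4 b5, ← mul_assoc (a * u), mul_assoc a u,
      ← z2 _ (h.gT.le hu) (le_normalizer hu), commutatorElement_def]
    rw [show a * (b * u * b⁻¹ * u⁻¹ * u) * (b * v) = a * b * (u * v) by group]
  rw [e1] at c2 c4 c6 c7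
  generalize ⁅b, u⁆ = z at *
  generalize a * u = d at *
  generalize b * v = d' at *
  have m1 := k2 _ a4 a6 a7 _ b4 b6 b7
  have m2 : d' * z ∈ B := by
    have := k2 _ a4 a6 a7 _ c4 c6 c7
    rwa [mul_assoc d, ← mul_assoc, mul_mem_cancel_left a3] at this
  have e2 : d * d' = d' * d := by
    have := k.gT.ab H m1 m2
    rw [mul_assoc d' z, z2 _ (mul_mem a4 b4) (mul_mem a5 b5), ← mul_assoc, ← mul_assoc, ← mul_assoc,
      mul_left_inj, mul_left_inj] at this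
    exact this
  have e3 : d * d' * (d * d') = 1 := by
    have : d⁻¹ * d'⁻¹ = d * d' := by
      rw [← a1, ← b1, show w * d * w * (w * d' * w) = w * d * (w * w) * d' * w by group, w2, mul_one,
        mul_assoc w, k.gT.ab H hw m1, mul_assoc, w2, mul_one]
    rw [← mul_inv_rev, ← e2] at this
    exact mul_eq_one_iff_inv_eq.2 this
  refine c2 ?_
  rw [mul_assoc, ← mul_assoc z, z2 _ (mul_mem a4 b4) (mul_mem a5 b5), mul_assoc (d * d'), z1, mul_one, e3]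

theorem Pr.two {S T A : Subgroup G} (h : Pr S T A) (hn : ¬ S ≤ 𝐍[T]) : Two S A := by
  by_contra h2
  have H := h.H
  have hS := h.lemB h2
  have all : ∀ B, Gd S B → B = T ∨ B = A := fun B hB => h.J hB fun v hv v2 => by
    by_contra v1
    by_cases e : S ≤ 𝐍[B]
    · exact h.symm.not_le fun t ht => h.lemA hB hv (hS (hB.le hv)) v1 v2 ht (e (h.gT.le ht))
    obtain ⟨y, hy, -, -, k⟩ := hB.exists_pr H e
    by_cases k2 : Two S B
    · obtain ⟨w, hw, w2, w1⟩ := k.exists_inv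
      by_cases e1 : v ∈ cj(y, B)
      · refine v1 ((mul_mem_cancel_right (h.lemC h2 k k2 hw w1 w2)).1 (h.lemC h2 k k2 (mul_mem hv hw)
          (fun e => w1 ((mul_mem_cancel_left e1).1 e)) ?_))
        rw [mul_assoc, ← mul_assoc w, hB.ab H hw hv, mul_assoc, ← mul_assoc, v2, w2, mul_one]
      · exact v1 (h.lemC h2 k k2 hv e1 v2)
    · exact v1 (h.lemA' h2 k (h.gT.le.trans (k.lemB fun e => k2 (by
        simpa only [cj_inv_cj] using e.cj (inv_mem hy)))) hv (hS (hB.le hv)) v2)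
  have nm : ∀ n ∈ 𝐍[S], ∀ a ∈ S, a ∈ 𝐍[T] → n * a * n⁻¹ ∈ 𝐍[T] := fun n hn a ha h1 => by
    have h3 : n * a * n⁻¹ ∈ 𝐍[cj(n, T)] := by rw [normalizer_cj]; exact conj_mem_cj n h1
    rcases all _ (h.gT.cj hn) with e | e <;> rw [e] at h3
    exacts [h3, h.symm.mem_N (conj_mem_of_mem_normalizer hn ha) h3]
  refine hn (le_of_focal H.syl H.foc (fun n hn a ha => ?_) fun B X hB x hx a ha => ?_)
  · have h1 := conj_mem_of_mem_normalizer hn ha
    by_cases e : a ∈ 𝐍[T]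
    · exact mul_mem (nm n hn a ha e) (inv_mem e)
    · exact h.mul_mem_N h1 (hS h1) (fun e1 => e (by
        simpa [mul_assoc] using nm n⁻¹ (inv_mem hn) _ h1 e1)) (inv_mem ha) (hS (inv_mem ha))
        fun e1 => e (by simpa using e1)
  · have h1 : x * a * x⁻¹ * a⁻¹ ∈ B :=
      mul_mem (conj_mem_of_mem_normalizer (hB.least.le' (pRes_le 2 X hx)) ha) (inv_mem ha)
    rcases all B ⟨X, hB⟩ with rfl | rfl
    exacts [le_normalizer h1, h.AN h1]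

theorem Gd.two {S T : Subgroup G} (h : Gd S T) (H : Hy S) (hn : ¬ S ≤ 𝐍[T]) : Two S T := by
  obtain ⟨y, hy, -, -, k⟩ := h.exists_pr H hn
  simpa only [cj_inv_cj] using (k.two hn).cj (inv_mem hy)

theorem Hy.exists_nonnormal {S : Subgroup G} (H : Hy S) : ∃ T, Gd S T ∧ ¬ S ≤ 𝐍[T] := by
  by_contra e
  push Not at e
  have h0 : S ≠ ⊥ := fun e => H.ncl (by rw [e]; simp)
  have key : ∀ T X A Y, Good 2 S T X → Good 2 S A Y → Nat.card T ≤ Nat.card A → A ≤ T :=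
    fun T X A Y hT hA hc => by
      by_contra hne
      have nT := e T ⟨X, hT⟩
      have nA := e A ⟨Y, hA⟩
      obtain ⟨U, x, f⟩ := H.ff hT hA hne (hA.le.trans nT) (hT.le.trans nA) hc
      have eS : S = T ⊔ A := le_antisymm (fun p hp => by
        obtain ⟨t, ht, a, ha, rfl⟩ := f.le p hp (nT hp)
        exact mul_mem_sup ht ha) (sup_le hT.le hA.le)
      have hZ : ⁅T, A⁆ ≤ 𝐂[S] := by
        rw [eS, Amb.centralizer_sup]
        exact le_inf ((le_normalizer_iff_commutator_le_left.1 (hA.le.trans nT)).trans (H.ab hT))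
          ((le_normalizer_iff_commutator_le_right.1 (hT.le.trans nA)).trans (H.ab hA))
      have n1 : S ≤ 𝐍[𝐂[S]] := le_normalizer_centralizer le_normalizer
      have b1 := fun T X (hT : Good 2 S T X) =>
        (commutator_eq_bot_iff_le_centralizer.2 (H.ab hT)).le.trans (bot_le (a := 𝐂[S]))
      refine H.ncl ?_
      conv_lhs => rw [eS]
      exact CommMod.commutator_sup_le (hT.le.trans n1) (hA.le.trans n1)
        (CommMod.commutator_sup_le' (hT.le.trans n1) (hA.le.trans n1) (b1 T X hT) hZ)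
        (CommMod.commutator_sup_le' (hT.le.trans n1) (hA.le.trans n1) (commutator_comm T A ▸ hZ)
          (b1 A Y hA))
  by_cases h1 : ∃ T, Gd S T
  · obtain ⟨T, X, hT⟩ := h1
    have u : ∀ A, Gd S A → A = T := fun A ⟨Y, hA⟩ => by
      rcases le_total (Nat.card T) (Nat.card A) with c | c
      · exact Gd.eq ⟨Y, hA⟩ ⟨X, hT⟩ H (key T X A Y hT hA c)
      · exact (Gd.eq ⟨X, hT⟩ ⟨Y, hA⟩ H (key A Y T X hA hT c)).symm
    have := H.nsc T (H.ab hT) (stronglyClosed_of H.syl hT.le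
      (fun n hn => cj_eq_iff.1 (u _ (Gd.cj ⟨X, hT⟩ hn))) fun B Y hB x hx a _ ha => by
        obtain rfl := u B ⟨Y, hB⟩
        exact conj_mem_of_mem_normalizer (hB.least.le' (pRes_le 2 Y hx)) ha)
    subst this
    exact h0 (le_bot_iff.1 fun s hs => hT.cent ⟨hs, by simp⟩)
  · exact inf_centralizer_ne_bot H.syl.pgrp H.syl.pgrp le_normalizer h0 (H.nsc _
      (inf_le_right.trans (centralizer_anti inf_le_left)) (stronglyClosed_of H.syl inf_le_left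
        (le_normalizer_inf le_rfl (normalizer_le_normalizer_centralizer S))
        fun B Y hB => (h1 ⟨B, Y, hB⟩).elim))

end Cfsg.Agent.SylAb
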