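import Mathlib
import Cfsg.Agent.SylAb.Pair
import Cfsg.Agent.SylAb.Dih
import Cfsg.Agent.Inv.AutTwo
import Cfsg.Agent.Inv.CycExt
import Cfsg.Agent.Grp.PFrattini
import Cfsg.Agent.Grp.Frattini

/-! Abelian Sylow `2`-intersections: the case of sections `SL₂(2)`; the Sylow subgroup is
dihedral. -/

set_option autoImplicit false
set_option linter.unusedSectionVars false

namespace Cfsg.Agent.SylAb

open Cfsg Subgroup Cfsg.Agent.PLocal Cfsg.Agent.PLocal.Amb Cfsg.Agent.PLocal.AG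
open Cfsg.Agent.DxD
open scoped commutatorElement

variable {G : Type*} [Group G] [Finite G]

structure TD (S T A U : Subgroup G) (x y z : G) : Prop where
  pr : Pr S T A
  ff : FF S T A U x
  yS : y ∈ S
  yT : cj(y, T) = A
  cz : ∀ a ∈ A, a ∉ T → ∀ t ∈ T, t ∉ A → ⁅a, t⁆ = z

theorem comm_mul_right {a s c : G} (h : ∀ g ∈ ({a, s} : Set G), c * g = g * c) :
    ⁅a, s * c⁆ = ⁅a, s⁆ := by
  rw [commutatorElement_def, commutatorElement_def, ← h s (by simp), ← mul_assoc, ← h a (by simp),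
    mul_assoc c, mul_assoc c, h s (by simp), mul_inv_rev, mul_assoc c, ← mul_assoc _ c⁻¹,
    show c * (a * s * a⁻¹ * c⁻¹ * s⁻¹) = c * (a * s * a⁻¹) * c⁻¹ * s⁻¹ by group,
    show c * (a * s * a⁻¹) = a * s * a⁻¹ * c from (show Commute c (a * s * a⁻¹) from
      ((show Commute c a from h a (by simp)).mul_right (h s (by simp))).mul_right
        (show Commute c a from h a (by simp)).inv_right), mul_inv_cancel_right]

theorem Gd.exists_td {S T : Subgroup G} (h : Gd S T) (H : Hy S) (hn : ¬ S ≤ 𝐍[T]) :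
    ∃ A U x y z, TD S T A U x y z := by
  obtain ⟨y, hy, -, y1, k⟩ := h.exists_pr H hn
  obtain ⟨U, x, f⟩ := k.ff
  have key : ∀ {T A}, Pr S T A → Two S A → ∀ a ∈ A, ∀ s ∈ T, s ∉ A → ∀ t ∈ T, t ∉ A →
      ⁅a, t⁆ = ⁅a, s⁆ := fun {T A} k h2 a ha s hs s1 t ht t1 => by
    have h3 := h2 _ (k.gT.le (inv_mem hs)) (k.TN (inv_mem hs)) (by simpa using s1) _ (k.gT.le ht)
      (k.TN ht) t1
    have h4 := mul_mem (inv_mem hs) ht
    rw [← mul_inv_cancel_left s t]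
    refine comm_mul_right ?_
    rintro _ (rfl | rfl)
    exacts [k.gA.ab H h3 ha, k.gT.ab H h4 hs]
  obtain ⟨a₀, ha₀, a1⟩ := SetLike.not_le_iff_exists.1 k.not_le
  obtain ⟨t₀, ht₀, t1⟩ := SetLike.not_le_iff_exists.1 k.symm.not_le
  refine ⟨_, U, x, y, ⁅a₀, t₀⁆, k, f, hy, rfl, fun a ha h1 t ht h2 => ?_⟩
  rw [key k ((h.two H hn).cj hy) a ha t₀ ht₀ t1 t ht h2, ← commutatorElement_inv,
    key k.symm (h.two H hn) t₀ ht₀ a₀ ha₀ a1 a ha h1, commutatorElement_inv]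

/-- The distinguished involutions of `T`. -/
def IsC (S T : Subgroup G) (u : G) : Prop :=
  u ∈ T ∧ u ∉ 𝐂[S ⊓ 𝐍[T]] ∧ ∃ g ∈ 𝐍[T], ∃ p ∈ S ⊓ 𝐍[T], ∃ t ∈ T, u = g * ⁅p, t⁆ * g⁻¹

def Cs (S : Subgroup G) : Set G := {u | ∃ T, Gd S T ∧ ¬ S ≤ 𝐍[T] ∧ IsC S T u}

theorem conj_mem_Cs {S : Subgroup G} {n u : G} (hn : n ∈ 𝐍[S]) (hu : u ∈ Cs S) : n * u * n⁻¹ ∈ Cs S := by
  obtain ⟨T, h1, h2, h3, h4, g, hg, p, hp, t, ht, e⟩ := hu
  have eP : S ⊓ 𝐍[cj(n, T)] = cj(n, S ⊓ 𝐍[T]) := by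
    rw [cj_inf, cj_of_mem_normalizer hn, normalizer_cj]
  refine ⟨_, h1.cj hn, fun e => h2 ?_, conj_mem_cj n h3, ?_, n * g * n⁻¹, ?_, n * p * n⁻¹, ?_,
    n * t * n⁻¹, conj_mem_cj n ht, ?_⟩
  · rwa [normalizer_cj, le_cj_iff, cj_of_mem_normalizer (inv_mem hn)] at e
  · rwa [eP, centralizer_cj, conj_mem_cj_iff]
  · rw [normalizer_cj]; exact conj_mem_cj n hg
  · rw [eP]; exact conj_mem_cj n hp
  · rw [e, commutatorElement_def, commutatorElement_def]; group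

namespace TD

variable {S T A U : Subgroup G} {x y z : G} (h : TD S T A U x y z)
include h

theorem nn : ¬ S ≤ 𝐍[T] := fun e => h.pr.ne (h.yT ▸ (cj_of_mem_normalizer (e h.yS)).symm)

theorem nnA : ¬ S ≤ 𝐍[A] := fun e => h.pr.ne (by
  rw [← cj_of_mem_normalizer (e (inv_mem h.yS)), ← h.yT, cj_inv_cj])

theorem ex : ∃ a ∈ A, a ∉ T ∧ ∃ t ∈ T, t ∉ A ∧ z = ⁅a, t⁆ := by
  obtain ⟨a, ha, a1⟩ := SetLike.not_le_iff_exists.1 h.pr.not_le
  obtain ⟨t, ht, t1⟩ := SetLike.not_le_iff_exists.1 h.pr.symm.not_le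
  exact ⟨a, ha, a1, t, ht, t1, (h.cz a ha a1 t ht t1).symm⟩

theorem zT : z ∈ T := by obtain ⟨a, ha, -, t, ht, -, rfl⟩ := h.ex; exact h.pr.cT ha ht

theorem zA : z ∈ A := by obtain ⟨a, ha, -, t, ht, -, rfl⟩ := h.ex; exact h.pr.cA ha ht

theorem z2 : z * z = 1 := by obtain ⟨a, ha, -, t, ht, -, rfl⟩ := h.ex; exact h.pr.csq ha ht

theorem zU : z ∉ U := by obtain ⟨a, ha, a1, t, ht, t1, rfl⟩ := h.ex; exact h.ff.comm a ha a1 t ht t1

theorem z1 : z ≠ 1 := fun e => h.zU (e ▸ one_mem _)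

theorem comm {p t : G} (hp : p ∈ S ⊓ 𝐍[T]) (ht : t ∈ T) : ⁅p, t⁆ = 1 ∨ ⁅p, t⁆ = z := by
  obtain ⟨s, hs, a, ha, rfl⟩ := h.pr.le hp.1 hp.2
  have e : ⁅s * a, t⁆ = ⁅a, t⁆ := by
    rw [commutatorElement_def, commutatorElement_def, show s * a * t * (s * a)⁻¹ =
      s * (a * t * a⁻¹) * s⁻¹ by group, h.pr.gT.ab h.pr.H hs
      (conj_mem_of_mem_normalizer (h.pr.AN ha) ht), mul_inv_cancel_right]
  rw [e]
  by_cases e1 : a ∈ T
  · exact Or.inl (commutatorElement_eq_one_iff_mul_comm.2 (h.pr.gT.ab h.pr.H e1 ht))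
  by_cases e2 : t ∈ A
  · exact Or.inl (commutatorElement_eq_one_iff_mul_comm.2 (h.pr.gA.ab h.pr.H ha e2))
  exact Or.inr (h.cz a ha e1 t ht e2)

theorem fix {g : G} (hg : g ∈ XX S T) : g * z * g⁻¹ = z := by
  obtain ⟨a, ha, -, t, ht, -, e⟩ := h.ex
  obtain ⟨p, hp, c, hc, e1⟩ := (mem_sup_of_le_normalizer_right
    (le_normalizer_centralizer inf_le_right)).1 (conj_mem_of_mem_normalizer hg.2
      (mem_sup_left (show a ∈ S ⊓ 𝐍[T] from ⟨h.pr.gA.le ha, h.pr.AN ha⟩)))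
  have ht' := conj_mem_of_mem_normalizer hg.1 ht
  have e2 : g * z * g⁻¹ = ⁅p, g * t * g⁻¹⁆ := by
    rw [e, conjugate_commutatorElement, e1, commutatorElement_def, commutatorElement_def, mul_assoc p,
      ← hc _ ht']
    group
  rcases h.comm hp ht' with e3 | e3
  · exact (h.z1 (by simpa [← e2] using e3)).elim
  · rw [e2, e3]

theorem uT : x * z * x⁻¹ ∈ T := conj_mem_of_mem_normalizer h.ff.xN h.zT

theorem uA : x * z * x⁻¹ ∉ A := fun e => h.zU (h.ff.disj z h.zT h.zA e)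

theorem conj {g : G} (hg : g ∈ 𝐍[T]) :
    g * z * g⁻¹ = z ∨ g * z * g⁻¹ = x * z * x⁻¹ ∨ g * z * g⁻¹ = z * (x * z * x⁻¹) := by
  by_cases e : g ∈ XX S T
  · exact Or.inl (h.fix e)
  obtain ⟨a, ha, e1⟩ := h.ff.bru g hg e
  have e2 : g * z * g⁻¹ = ⁅a, x * z * x⁻¹⁆ * (x * z * x⁻¹) := by
    rw [← h.fix e1, commutatorElement_def, h.fix e1]
    conv_lhs => rw [← h.fix e1]
    group
  rw [e2]
  rcases h.comm ⟨h.pr.gA.le ha, h.pr.AN ha⟩ h.uT with e3 | e3 <;> simp [e3]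

theorem mem_C {u : G} (hu : u ∈ T) : u ∈ 𝐂[S ⊓ 𝐍[T]] ↔ u ∈ A :=
  ⟨fun e => h.pr.gA.cent (h.pr.gT.le hu) fun a ha => e a ⟨h.pr.gA.le ha, h.pr.AN ha⟩,
    fun e _ hp => (h.pr.zc hu e hp.1 hp.2).symm⟩

theorem isC_iff {u : G} : IsC S T u ↔ u = x * z * x⁻¹ ∨ u = z * (x * z * x⁻¹) := by
  obtain ⟨a, ha, a1, t, ht, t1, e⟩ := h.ex
  have hp : a ∈ S ⊓ 𝐍[T] := ⟨h.pr.gA.le ha, h.pr.AN ha⟩
  constructor
  · rintro ⟨h1, h2, g, hg, p, hp, t, ht, rfl⟩
    rw [h.mem_C h1] at h2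
    rcases h.comm hp ht with e | e <;> rw [e] at h2 ⊢
    · exact (h2 (by simp)).elim
    · exact (h.conj hg).resolve_left fun e => h2 (e.symm ▸ h.zA)
  · rintro (rfl | rfl)
    · exact ⟨h.uT, fun e => h.uA ((h.mem_C h.uT).1 e), x, h.ff.xN, a, hp, t, ht, by rw [← e]⟩
    · refine ⟨mul_mem h.zT h.uT, fun e => h.uA ((mul_mem_cancel_left h.zA).1
        ((h.mem_C (mul_mem h.zT h.uT)).1 e)), a * x, mul_mem hp.2 h.ff.xN, a, hp, t, ht, ?_⟩
      rw [← e]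
      refine (congrArg (· * (x * z * x⁻¹)) (h.cz a ha a1 _ h.uT h.uA).symm).trans ?_
      rw [commutatorElement_def]
      group

theorem u_mem : x * z * x⁻¹ ∈ Cs S := ⟨T, h.pr.gT, h.nn, h.isC_iff.2 (Or.inl rfl)⟩

theorem yu : y * (x * z * x⁻¹) * y⁻¹ ∈ A ∧ y * (x * z * x⁻¹) * y⁻¹ ∉ T :=
  ⟨h.yT ▸ conj_mem_cj y h.uT, fun e => h.pr.symm.not_le fun t ht => h.yT ▸ mem_cj.2 (h.pr.cent h.uT h.uA
    (mul_mem (mul_mem (inv_mem h.yS) (h.pr.gT.le ht)) h.yS) (by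
      have := (show Commute _ _ from h.pr.gT.ab h.pr.H ht e).conj y⁻¹
      rw [inv_inv, show y⁻¹ * (y * (x * z * x⁻¹) * y⁻¹) * y = x * z * x⁻¹ by group] at this
      exact this))⟩

theorem nA {u : G} (hu : IsC S T u) : u ∉ A := fun e => hu.2.1 ((h.mem_C hu.1).2 e)

theorem sq {u : G} (hu : IsC S T u) : u * u = 1 := by
  have e : x * z * x⁻¹ * (x * z * x⁻¹) = 1 := by rw [conj_mul, h.z2]; simp
  rcases h.isC_iff.1 hu with rfl | rfl
  · exact e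
  · rw [mul_assoc z, ← mul_assoc _ z, h.pr.gT.ab h.pr.H h.uT h.zT, mul_assoc z, e, mul_one, h.z2]

theorem mate {u : G} (hu : IsC S T u) : IsC S T (z * u) := by
  rcases h.isC_iff.1 hu with rfl | rfl <;> rw [h.isC_iff]
  · exact Or.inr rfl
  · exact Or.inl (by rw [← mul_assoc z z, h.z2, one_mul])

theorem eq_of_comm {u w : G} (hu : IsC S T u) (hw : w ∈ Cs S) (e : w * u = u * w) :
    w = u ∨ w = z * u := by
  obtain ⟨B, hB, hn, hw⟩ := hw
  obtain ⟨C, V, x', y', z', k⟩ := hB.exists_td h.pr.H hn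
  have h1 := h.pr.cent hu.1 (h.nA hu) (hB.le hw.1) e
  obtain rfl : T = B := h.pr.gT.eq hB h.pr.H fun t ht =>
    k.pr.cent hw.1 (k.nA hw) (h.pr.gT.le ht) (h.pr.gT.ab h.pr.H ht h1)
  rcases h.isC_iff.1 hu with rfl | rfl <;> rcases h.isC_iff.1 hw with rfl | rfl <;>
    simp [← mul_assoc z z, h.z2]

theorem X_le {X : Subgroup G} (hX : Good 2 S T X) : X ≤ 𝐂[U] := by
  obtain ⟨a, ha, a1, -⟩ := h.ex
  have hT : T ≤ 𝐍[T] ⊓ 𝐂[U] := le_inf le_normalizer fun t ht u hu =>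
    h.pr.gT.ab h.pr.H (h.ff.U_le hu).1 ht
  refine (hX.least.min _ hT inf_le_left
    (le_normalizer_inf le_normalizer (le_normalizer_centralizer h.ff.nU)) ?_).trans inf_le_right
  have : (T.subgroupOf (𝐍[T] ⊓ 𝐂[U])).Normal := normal_subgroupOf' inf_le_left
  let g : ↥(𝐍[T] ⊓ 𝐂[U]) := ⟨a, h.pr.AN ha, fun u hu => h.pr.gA.ab h.pr.H (h.ff.U_le hu).2 ha⟩
  have ho : orderOf (QuotientGroup.mk' (T.subgroupOf (𝐍[T] ⊓ 𝐂[U])) g) = 2 := by
    refine orderOf_eq_prime ?_ fun h3 => a1 ?_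
    · rw [pow_two, ← map_mul]
      exact (QuotientGroup.eq_one_iff _).2 (h.pr.gT.two h.pr.H h.nn _ (h.pr.gA.le ha) (h.pr.AN ha) a1
        _ (h.pr.gA.le ha) (h.pr.AN ha) a1)
    · exact (QuotientGroup.eq_one_iff (N := T.subgroupOf (𝐍[T] ⊓ 𝐂[U])) _).1 h3
  rw [← ho]
  exact orderOf_dvd_natCard _

theorem not_normal {B : Subgroup G} (hB : Gd S B) : ¬ S ≤ 𝐍[B] := fun hn => by
  have H := h.pr.H
  have hu : IsC S T (x * z * x⁻¹) := h.isC_iff.2 (Or.inl rfl)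
  generalize x * z * x⁻¹ = u at hu
  have uS := h.pr.gT.le hu.1
  have u2 := h.sq hu
  have ui : u⁻¹ = u := inv_eq_of_mul_eq_one_right u2
  have h1 : ¬ B ≤ 𝐍[T] := fun e => by
    rcases h.pr.J hB fun v hv _ => e hv with rfl | rfl
    exacts [h.nn hn, h.nnA hn]
  obtain ⟨g, hg, g1⟩ := SetLike.exists_of_lt (lt_inf_normalizer (p := 2) (R := S ⊓ 𝐍[T])
    (T := (S ⊓ 𝐍[T]) ⊔ B) (H.syl.pgrp.to_le (sup_le inf_le_left hB.le))
    (lt_of_le_of_ne le_sup_left fun e => h1 ((le_sup_right.trans e.ge).trans inf_le_right)))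
  obtain ⟨p, hp, w, hw, rfl⟩ := (mem_sup_of_le_normalizer_right (inf_le_left.trans hn)).1 hg.1
  have w1 : w ∉ 𝐍[T] := fun e => g1 (mul_mem hp ⟨hB.le hw, e⟩)
  have sw := h.pr.swap (hB.le hw) ((mul_mem_cancel_left (le_normalizer hp)).1 hg.2) w1
  have ha : w * u * w⁻¹ ∈ A := sw ▸ conj_mem_cj w hu.1
  have a1 : w * u * w⁻¹ ∉ T := fun e => h.nA hu (by
    have := h.pr.swap' (hB.le hw) ((mul_mem_cancel_left (le_normalizer hp)).1 hg.2) w1
    rwa [← this, conj_mem_cj_iff] at e)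
  have hc : w * u * w⁻¹ * u ∈ B := by
    simpa [mul_assoc, ui] using mul_mem hw (conj_mem_of_mem_normalizer (hn uS) (inv_mem hw))
  have c2 : w * u * w⁻¹ * u * (w * u * w⁻¹ * u) = z := by
    rw [← h.cz _ ha a1 u hu.1 (h.nA hu), commutatorElement_def, conj_inv, ui, ← mul_assoc]
  generalize w * u * w⁻¹ * u = c at hc c2
  have tv : ∀ v ∈ B, v * v = 1 → u * v * u⁻¹ * v⁻¹ = 1 ∨ u * v * u⁻¹ * v⁻¹ = z := fun v hv v2 => by
    have vi : v⁻¹ = v := inv_eq_of_mul_eq_one_right v2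
    have c := hB.ab H (conj_mem_of_mem_normalizer (hn uS) hv) hv
    rw [ui] at c ⊢
    rcases h.eq_of_comm hu (conj_mem_Cs (le_normalizer (hB.le hv)) ⟨T, h.pr.gT, h.nn, hu⟩) (by
      rw [vi, show v * u * v * u = v * (u * v * u) * 1 by group, ← c]; group) with e | e
    · left; rw [mul_assoc, mul_assoc, ← mul_assoc v, e, u2]
    · right; rw [mul_assoc, mul_assoc, ← mul_assoc v, e, h.pr.gT.ab H h.zT hu.1, ← mul_assoc, u2, one_mul]
  obtain ⟨X, hX⟩ := id hB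
  refine h1 (le_trans (fun b hb => h.pr.cent hu.1 (h.nA hu) (hB.le hb) (hB.ab H hb ?_)) le_normalizer)
  refine rad_om (Y := closure {v | ∃ g ∈ 𝐍[B], v = g * z * g⁻¹}) hX (H.ab hX)
    (fun n hn => mem_normalizer_of_cj_le ?_) uS (hn uS) (fun v hv v2 => ?_) fun v hv => ?_
  · rw [MonoidHom.map_closure, closure_le]
    rintro _ ⟨_, ⟨g, hg, rfl⟩, rfl⟩
    exact subset_closure ⟨n * g, mul_mem hn hg, by simp [mul_assoc]⟩
  · rcases tv v hv v2 with e | e <;> rw [e]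
    exacts [one_mem _, subset_closure ⟨1, one_mem _, by simp⟩]
  refine mem_centralizer_singleton_iff.1 ((closure_le _).2 ?_ hv)
  rintro _ ⟨g, hg, rfl⟩
  have hc' := conj_mem_of_mem_normalizer hg hc
  have e1 : g * z * g⁻¹ = g * c * g⁻¹ * (g * c * g⁻¹) := by rw [conj_mul, c2]
  have e2 : g * z * g⁻¹ * (g * z * g⁻¹) = 1 := by rw [conj_mul, h.z2]; simp
  rw [e1] at e2 ⊢
  generalize g * c * g⁻¹ = d at hc' e2
  have hd := conj_mem_of_mem_normalizer (hn uS) hc'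
  rcases tv _ (mul_mem hc' hc') e2 with e | e
  · rw [mul_inv_eq_one, mul_inv_eq_iff_eq_mul] at e
    exact mem_centralizer_singleton_iff.2 e.symm
  · refine (h.zU ?_).elim
    have := h.ff.sq _ (h.pr.cent hu.1 (h.nA hu) (hB.le (mul_mem hd hc')) (by
      conv_lhs => rw [hB.ab H hd hc']
      rw [ui, ← mul_assoc u, ← mul_assoc u, ← mul_assoc u, u2, mul_assoc, mul_assoc, u2]; group))
    rw [← e, inv_eq_of_mul_eq_one_right e2, ← conj_mul]
    rwa [mul_assoc, ← mul_assoc d, ← hB.ab H hd hc', mul_assoc _ d d, ← mul_assoc] at this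

end TD

namespace Hy

variable {S : Subgroup G} (H : Hy S)
include H

theorem td {T : Subgroup G} (h : Gd S T) : ∃ A U x y z, TD S T A U x y z := by
  obtain ⟨B, hB, hn⟩ := H.exists_nonnormal
  obtain ⟨_, _, _, _, _, k⟩ := hB.exists_td H hn
  exact h.exists_td H (k.not_normal h)

theorem Cs_le {u : G} (hu : u ∈ Cs S) : u ∈ S := hu.elim fun _ h => h.1.le h.2.2.1

theorem dh : DH {u : S | (u : G) ∈ Cs S} := by
  refine ⟨fun u hu g => conj_mem_Cs (le_normalizer g.2) hu, ?_, ?_, ?_, ?_⟩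
  · rintro u ⟨T, hT, -, hu⟩
    obtain ⟨_, _, _, _, _, k⟩ := H.td hT
    exact Subtype.ext (k.sq hu)
  · rintro u ⟨T, hT, -, hu⟩ rfl
    exact hu.2.1 (one_mem _)
  · rintro u ⟨T, hT, -, hu⟩ a b ha hb
    obtain ⟨_, _, _, _, _, k⟩ := H.td hT
    exact Subtype.ext (hT.ab H (k.pr.cent hu.1 (k.nA hu) a.2 (congrArg Subtype.val ha))
      (k.pr.cent hu.1 (k.nA hu) b.2 (congrArg Subtype.val hb)))
  · rintro u ⟨T, hT, hn, hu⟩
    obtain ⟨_, _, _, _, z, k⟩ := H.td hT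
    have c := hT.ab H k.zT hu.1
    refine ⟨⟨z, hT.le k.zT⟩ * u, ⟨T, hT, hn, k.mate hu⟩, fun e => k.z1 ?_, Subtype.ext ?_,
      fun w hw e => (k.eq_of_comm hu hw (congrArg Subtype.val e)).imp Subtype.ext Subtype.ext,
      fun t ht e => k.zU ?_⟩
    · simpa using e
    · exact (congrArg (· * (u : G)) c).trans (by simp [c, mul_assoc])
    · have e1 : (t : G) * t = u * (z * u) := congrArg Subtype.val e
      rw [c, ← mul_assoc, k.sq hu, one_mul] at e1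
      exact e1 ▸ k.ff.sq _ (k.pr.cent hu.1 (k.nA hu) t.2 (congrArg Subtype.val ht))

theorem exists_E : ∃ u ∈ Cs S, ∃ v ∈ Cs S, u * v ≠ v * u ∧ Cs S ⊆ closure {u, v} := by
  obtain ⟨T, hT, hn⟩ := H.exists_nonnormal
  obtain ⟨A, U, x, y, z, k⟩ := H.td hT
  obtain ⟨u, hu, v, hv, hc⟩ := DH.exists_closure _ rfl H.dh H.syl.pgrp ⟨⟨_, H.Cs_le k.u_mem⟩, k.u_mem⟩
  have h1 : Cs S ⊆ closure {(u : G), (v : G)} := fun w hw => by
    have := mem_map_of_mem S.subtype (hc (show (⟨w, H.Cs_le hw⟩ : S) ∈ _ from hw))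
    rwa [MonoidHom.map_closure, Set.image_pair] at this
  refine ⟨u, hu, v, hv, fun e => ?_, h1⟩
  have h2 : closure {(u : G), (v : G)} ≤ 𝐂[closure {(u : G), (v : G)}] := by
    rw [centralizer_closure, closure_le]
    rintro _ (rfl | rfl) _ (rfl | rfl) <;> simp [e]
  have h3 := conj_mem_Cs (le_normalizer k.yS) k.u_mem
  exact k.yu.2 (k.pr.cent k.uT k.uA (H.Cs_le h3) (h2 (h1 k.u_mem) _ (h1 h3)))

theorem odd_cent {E : Subgroup G} (hE : Cs S ⊆ E) (hES : E ≤ S) (hn : S ≤ 𝐍[E]) {n : G}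
    (h : Inv.OddAut S fun g => n * g * n⁻¹) (hnS : n ∈ 𝐍[S]) (hf : E ≤ h.fixed) : S ≤ h.fixed := by
  let C₀ : Subgroup G := S ⊓ ⨅ T, ⨅ X, ⨅ _ : Good 2 S T X, T ⊓ 𝐂[𝐎[2, X]]
  have mC : ∀ c, c ∈ C₀ ↔ c ∈ S ∧ ∀ T X, Good 2 S T X → c ∈ T ⊓ 𝐂[𝐎[2, X]] := fun c => by
    simp only [C₀, mem_inf, mem_iInf]
  have h0 : C₀ = ⊥ := by
    obtain ⟨T, ⟨X, hT⟩, -⟩ := H.exists_nonnormal
    refine H.nsc _ (fun a ha b hb => H.ab hT ((mC a).1 ha |>.2 T X hT).1 b ((mC b).1 hb |>.2 T X hT).1)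
      (stronglyClosed_of H.syl inf_le_left (fun m hm => mem_normalizer_of_forall fun c hc => (mC _).2
        ⟨conj_mem_of_mem_normalizer hm hc.1, fun T X hT => ?_⟩) fun T X hT x hx a _ ha => ?_)
    · have := ((mC c).1 hc).2 _ _ (hT.cj (inv_mem hm))
      rw [pRes_cj, centralizer_cj, ← cj_inf, mem_cj, inv_inv] at this
      exact this
    · rwa [(((mC a).1 ha).2 T X hT).2 x hx, mul_inv_cancel_right]
  have hK : ∀ k ∈ S, k ∈ 𝐂[E] → k ∈ h.fixed := fun k hk hkE => h.mem_fixed_of_diff hk (by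
    suffices k⁻¹ * (n * k * n⁻¹) ∈ C₀ by rw [h0, mem_bot] at this; rw [this]; exact one_mem _
    refine (mC _).2 ⟨mul_mem (inv_mem hk) (conj_mem_of_mem_normalizer hnS hk), fun T X hT => ?_⟩
    obtain ⟨A, U, x, y, z, d⟩ := H.td ⟨X, hT⟩
    have kT := d.pr.cent d.uT d.uA hk (hkE _ (hE d.u_mem)).symm
    have kA : k ∈ A := by
      by_contra e
      exact d.pr.cne d.yu.1 d.yu.2 kT e (commutatorElement_eq_one_iff_mul_comm.2
        (hkE _ (hE (conj_mem_Cs (le_normalizer d.yS) d.u_mem))))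
    have f1 : n * (x * z * x⁻¹) * n⁻¹ = x * z * x⁻¹ := (hf (hE d.u_mem)).2
    have nT : n ∈ 𝐍[T] := mem_normalizer_of_forall fun t ht =>
      d.pr.cent d.uT d.uA (conj_mem_of_mem_normalizer hnS (hT.le ht)) (by
        have := (show Commute _ _ from d.pr.gT.ab H ht d.uT).conj n
        rwa [f1] at this)
    have f2 : n * z * n⁻¹ = z := (hf ((mul_mem_cancel_right (hE d.u_mem)).1
      (hE ⟨T, d.pr.gT, d.nn, d.isC_iff.2 (Or.inr rfl)⟩))).2
    obtain ⟨a, ha, u, hu, e⟩ := d.ff.surj _ d.uT d.uA k kT kA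
    have : k⁻¹ * (n * k * n⁻¹) ∈ U := by
      have h1 := mul_mem (inv_mem hu) (conj_mem_of_mem_normalizer (d.ff.nU nT) hu)
      rcases d.comm ⟨d.pr.gA.le ha, d.pr.AN ha⟩ d.uT with e1 | e1 <;> rw [e, e1]
      · simpa using h1
      · rwa [← conj_mul, f2, mul_inv_rev, mul_assoc, inv_mul_cancel_left]
    exact ⟨(d.ff.U_le this).1, centralizer_anti (pRes_le 2 X) (le_centralizer_iff.1 (d.X_le hT) this)⟩)
  intro s hs
  refine h.mem_fixed_of_diff hs (hK _ (mul_mem (inv_mem hs) (conj_mem_of_mem_normalizer hnS hs))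
    fun e he => ?_)
  have h1 : n * e * n⁻¹ = e := (hf he).2
  have h2 : n * (s * e * s⁻¹) * n⁻¹ = s * e * s⁻¹ := (hf (conj_mem_of_mem_normalizer (hn hs) he)).2
  calc e * (s⁻¹ * (n * s * n⁻¹)) = s⁻¹ * (s * e * s⁻¹) * (n * s * n⁻¹) := by group
    _ = s⁻¹ * (n * s * n⁻¹) * (n * e * n⁻¹) := by rw [← h2]; group
    _ = _ := by rw [h1]

theorem dihedral : ∃ m : ℕ, 2 ≤ m ∧ Nonempty (S ≃* DihedralGroup m) := by
  obtain ⟨u, hu, v, hv, hne, hE⟩ := H.exists_E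
  have sq : ∀ u ∈ Cs S, u * u = 1 := fun u hu =>
    congrArg Subtype.val (H.dh.sq ⟨u, H.Cs_le hu⟩ hu)
  have ui := inv_eq_of_mul_eq_one_right (sq u hu)
  have vi := inv_eq_of_mul_eq_one_right (sq v hv)
  have e1 : u * (u * v) * u⁻¹ = (u * v)⁻¹ := by
    rw [mul_inv_rev, ui, vi, ← mul_assoc, sq u hu, one_mul]
  have e2 : u ∉ zpowers (u * v) := fun e => hne (by
    have := (Commute.refl (u * v)).zpow_right
    obtain ⟨k, hk⟩ := mem_zpowers_iff.1 e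
    have h1 := (hk ▸ this k).eq
    rwa [mul_assoc, mul_right_inj, eq_comm] at h1)
  have e3 : closure {u, v} = closure {u * v, u} := by
    refine le_antisymm ((closure_le _).2 ?_) ((closure_le _).2 ?_)
    · rintro _ (rfl | rfl)
      · exact subset_closure (by simp)
      · exact (mul_mem_cancel_left (subset_closure (by simp))).1
          (subset_closure (Set.mem_insert _ _))
    · rintro _ (rfl | rfl)
      · exact mul_mem (subset_closure (by simp)) (subset_closure (by simp))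
      · exact subset_closure (by simp)
  have hES : closure {u, v} ≤ S := (closure_le _).2 (by
    rintro _ (rfl | rfl); exacts [H.Cs_le hu, H.Cs_le hv])
  have hN : 𝐍[S] ≤ 𝐍[closure {u, v}] := fun n hn => mem_normalizer_of_cj_le (by
    rw [MonoidHom.map_closure, closure_le]
    rintro _ ⟨_, rfl | rfl, rfl⟩
    exacts [hE (conj_mem_Cs hn hu), hE (conj_mem_Cs hn hv)])
  obtain ⟨c, c1, c0⟩ := Inv.exists_cycExt (x := u * v) (y := u) rfl (-1) 0 (by simpa using e1)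
    (by simpa using sq u hu) e2
  have hs : ∀ w ∈ Cs S, ∃ i, w = c.s i := fun w hw => (c.cases (e3 ▸ hE hw)).resolve_left fun e => by
    obtain ⟨k, hk⟩ := mem_zpowers_iff.1 (c.mem_zpowers_r_one.2 e)
    rw [c1] at hk
    have h1 : u * v * w = w * (u * v) := hk ▸ ((Commute.refl (u * v)).zpow_right k).eq
    have h2 : u * w = w * u := by
      rw [← mul_inv_eq_iff_eq_mul, ← hk, ← conj_zpow, e1, inv_zpow, hk,
        inv_eq_of_mul_eq_one_right (sq w hw)]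
    have := congrArg Subtype.val (H.dh.ab ⟨w, H.Cs_le hw⟩ hw ⟨u, H.Cs_le hu⟩
      (⟨u, H.Cs_le hu⟩ * ⟨v, H.Cs_le hv⟩) (Subtype.ext h2) (Subtype.ext h1))
    exact hne (by simpa [mul_assoc] using this)
  have hO : 𝐎[2, 𝐍[S]] ≤ 𝐂[S] := pRes_le_iff.2 fun n hn ho => by
    have h := Inv.oddAut_conj H.syl.pgrp hn (Nat.coprime_two_right.1 ho)
      (by rw [pow_orderOf_eq_one]; exact one_mem _)
    have hr : ∀ i, c.r i ∈ zpowers (u * v) := fun i => by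
      have := c.mem_zpowers_r_one.2 ⟨i, rfl⟩
      rwa [c1] at this
    obtain ⟨i, hi⟩ := hs _ (conj_mem_Cs hn hu)
    obtain ⟨j, hj⟩ := hs _ (conj_mem_Cs hn hv)
    have f1 : u * v ∈ h.fixed := h.mem_fixed_of_mem_zpowers (mul_mem (H.Cs_le hu) (H.Cs_le hv)) (by
      show n * (u * v) * n⁻¹ ∈ _
      rw [← conj_mul, hi, hj, c.s_mul_s]
      exact hr _)
    have f2 : u ∈ h.fixed := h.mem_fixed_of_diff (H.Cs_le hu) (zpowers_le.2 f1 (by
      show u⁻¹ * (n * u * n⁻¹) ∈ _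
      rw [hi, ui]
      exact ((congrArg (· * c.s i) c0.symm).trans (c.s_mul_s 0 i)).symm ▸ hr _))
    intro s hs
    have := (H.odd_cent hE hES (le_normalizer.trans hN) h hn (e3 ▸ (closure_le _).2 (by
      rintro _ (rfl | rfl); exacts [f1, f2])) hs).2
    exact (mul_inv_eq_iff_eq_mul.1 this).symm
  have h1 : S ≤ closure {u, v} ⊔ ⁅S, S⁆ := by
    refine le_of_focal H.syl H.foc (fun n hn a ha => mem_sup_right ?_)
      fun T X hT g hg a ha => mem_sup_left ?_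
    · rw [← (H.syl.mono le_normalizer le_top).pRes_sup] at hn
      obtain ⟨c, hc, s, hs, rfl⟩ := (mem_sup_of_le_normalizer_left
        (le_normalizer_centralizer le_normalizer)).1 (sup_le_sup_right hO S hn)
      rw [show c * s * a * (c * s)⁻¹ = c * (s * a * s⁻¹) * c⁻¹ by group,
        ← hc _ (mul_mem (mul_mem hs ha) (inv_mem hs)), mul_inv_cancel_right]
      exact commutator_mem_commutator hs ha
    · obtain ⟨A, U, x, y, z, d⟩ := H.td ⟨X, hT⟩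
      obtain ⟨b, hb, b1, -⟩ := d.ex
      have m1 := hE d.u_mem
      have m2 := hE ⟨T, d.pr.gT, d.nn, d.isC_iff.2 (Or.inr rfl)⟩
      have hW : 𝐍[T] ≤ 𝐍[closure {v | ∃ g ∈ 𝐍[T], v = g * z * g⁻¹}] :=
        fun n hn => mem_normalizer_of_cj_le (by
          rw [MonoidHom.map_closure, closure_le]
          rintro _ ⟨_, ⟨g, hg, rfl⟩, rfl⟩
          exact subset_closure ⟨n * g, mul_mem hn hg, by simp [mul_assoc]⟩)
      refine (closure_le _).2 ?_ ((pRes_le_stab hT hW (g := b) ⟨d.pr.AN hb, fun t ht => ?_⟩ b1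
        (d.pr.gT.two H d.nn _ (d.pr.gA.le hb) (d.pr.AN hb) b1 _ (d.pr.gA.le hb) (d.pr.AN hb) b1)
        hg).2 a ha)
      · rintro _ ⟨g, hg, rfl⟩
        rcases d.conj hg with e | e | e <;> rw [e]
        exacts [(mul_mem_cancel_right m1).1 m2, m1, m2]
      · rcases d.comm ⟨d.pr.gA.le hb, d.pr.AN hb⟩ ht with e | e <;> rw [← commutatorElement_def, e]
        exacts [one_mem _, subset_closure ⟨1, one_mem _, by simp⟩]
  have h2 : (closure {u, v}).subgroupOf S = ⊤ := by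
    refine Grp.eq_top_of_sup_le_frattini (Grp.PFrattini.commutator_le_frattini H.syl.pgrp) ?_
    refine map_injective S.subtype_injective ?_
    rw [Subgroup.map_sup, map_subgroupOf_of_le hES, map_subtype_commutator, ← MonoidHom.range_eq_map,
      range_subtype]
    exact le_antisymm (sup_le hES (commutator_le_self S)) h1
  obtain rfl : S = closure {u * v, u} := e3 ▸ le_antisymm (subgroupOf_eq_top.1 h2) hES
  refine ⟨orderOf (u * v), ?_, Inv.nonempty_dihedral_of_gens rfl e1 (sq u hu) e2⟩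
  have h3 : orderOf (u * v) ≠ 1 := fun e => hne (by
    rw [orderOf_eq_one_iff, mul_eq_one_iff_eq_inv, vi] at e; rw [e])
  have := orderOf_pos (u * v)
  omega

end Hy

end Cfsg.Agent.SylAb
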